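import Cfsg.Agent.ThRel.SwapInvol

/-!
# The action of a raw swapper on the centraliser of `a` and `c`
-/

set_option autoImplicit false
set_option maxRecDepth 100000

namespace Cfsg.Agent.ThRel

open Cfsg.Agent.CosetCert Model

namespace SwapAct

/-- The word of `d c d e d c d`. -/
def wX : List Nat := [2, 1, 2, 3, 2, 1, 2]

/-- The word of its image. -/
def wY : List Nat := [2, 1, 2, 13, 2, 1, 2, 6]

/-- The word of `d c d u d c d`. -/
def wW : List Nat := [2, 1, 2, 6, 2, 1, 2]

/-- The word of its image. -/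
def wW' : List Nat := [2, 3, 2, 1, 2, 1, 3, 2, 13]

theorem cand_check : liftsComm.all (fun w => allFrom (fun q =>
    !(condT [1] (w ++ [14 + q])) || (eqB (w ++ [14 + q]) [3] || (eqB (w ++ [14 + q]) wX ||
      eqB (w ++ [14 + q]) wY))) 0 512) = true := by
  decide +kernel

/-- What is known of the image of `u` on its own. -/
noncomputable def baseV (v : List Nat) : Bool :=
  eqB (v ++ v) [0, 1] && (eqB (v ++ [1]) ([1] ++ v) && eqB ([5] ++ v) (v ++ [12]))

/-- What is known of it when `e` is fixed. -/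
noncomputable def moreV (v : List Nat) : Bool :=
  eqB (v ++ [3]) ([3] ++ v) && (eqB ([11, 11] ++ v ++ [4, 4] ++ [3]) ([3] ++ ([11, 11] ++ v ++ [4, 4])) &&
    (eqB (v ++ [4] ++ (v ++ [4]) ++ (v ++ [4])) [0, 1] &&
      eqB (invW v ++ [11] ++ v ++ [4] ++ (invW v ++ [11] ++ v ++ [4]) ++
        (invW v ++ [11] ++ v ++ [4] ++ (invW v ++ [11] ++ v ++ [4]))) [0, 1]))

theorem u_check : liftsInv.all (fun w => allFrom (fun q =>
    imp (baseV (w ++ [14 + q])) (!(eqB (w ++ [14 + q] ++ wX) (wX ++ (w ++ [14 + q]))) &&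
      (!(eqB (w ++ [14 + q] ++ wY) (wY ++ (w ++ [14 + q]))) &&
        imp (moreV (w ++ [14 + q])) (eqB (w ++ [14 + q]) [6] || eqB (w ++ [14 + q]) [6, 3])))) 0 512) = true := by
  decide +kernel

theorem rel_check : eqB ([0, 3] ++ wX) (wX ++ [3]) = true ∧ eqB ([1, 3] ++ [3]) ([3] ++ [3]) = false ∧
    eqB ([1, 3] ++ wX) (wX ++ [3]) = false ∧ eqB (wX ++ [13]) ([6] ++ wX) = true ∧
    eqB (wY ++ [13]) ([6] ++ wY) = false ∧ condT [1] wX = true ∧ moreV [6] = true ∧
    eqB wW ([3, 4, 6, 11] ++ wX ++ [4, 4, 13, 4, 4] ++ wX ++ [11]) = true ∧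
    eqB wW' ([3, 4, 6, 3, 11] ++ wY ++ [4, 4] ++ invW [6, 3] ++ [4, 4] ++ wY ++ [11]) = true := by
  decide +kernel

variable {G : Type*} [Group G] (R : CData G)

theorem gv2 {v w : List Nat} (hv : okW v = true) (hw : okW w = true) (h : eqB v w = true) :
    gv R v = gv R w := (eqB_iff R hv hw).1 h

theorem U_sq : R.U * R.U = R.A * R.C := by
  rw [gU, gA, gC, ← gv_append, ← gv_append]; exact gv_eq R (by decide) (by decide) (by decide +kernel)

theorem comm_list : Commute R.E R.A ∧ Commute R.E R.C ∧ Commute R.E R.T ∧ Commute R.U R.A ∧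
    Commute R.U R.C ∧ Commute R.U R.E ∧ Commute R.A R.C := by
  refine ⟨?_, ?_, ?_, ?_, ?_, ?_, ?_⟩ <;>
  · show _ * _ = _ * _
    simp only [gA, gC, gE, gT, gU, ← gv_append]
    exact gv_eq R (by decide) (by decide) (by decide +kernel)

theorem U_T : R.T * R.U = R.U * R.T⁻¹ := by
  rw [gT, gU, show (gv R [5])⁻¹ = gv R [12] from (gv_letter_neg R 5).symm, ← gv_append, ← gv_append]
  exact gv_eq R (by decide) (by decide) (by decide +kernel)

theorem E_basic : R.E * R.E = 1 ∧ R.E ≠ 1 := by
  refine ⟨?_, fun h => ?_⟩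
  · rw [gE, ← gv_append, ← gv_nil R]; exact gv_eq R (by decide) rfl (by decide +kernel)
  · rw [gE, ← gv_nil R] at h
    exact gv_ne R (by decide) rfl (by decide +kernel) h

theorem rel_of_word {y : List Nat} (hy : okW y = true) (h2 : gv R y * gv R y = 1) (h : relB y = true) :
    SevenRel R (gv R y) := by
  have e := (eqB_iff R (okW_append (okW_append (okW_append hy rfl) hy) rfl)
    (okW_append (okW_append rfl hy) rfl)).1 h
  rw [gv_append, gv_append, gv_append, gv_append, gv_append] at e
  rw [SevenRel, inv_eq_of_mul_eq_one_right h2, gS]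
  have e3 : gv R [4, 4, 4] = gv R [4] ^ 3 := by
    rw [gv_cons, gv_cons R 4 [4], pow_succ, pow_two, mul_assoc]
  have e11 : gv R [11, 11, 11] = (gv R [4] ^ 3)⁻¹ := by
    rw [← e3, ← gv_invW R (w := [4, 4, 4]) (by decide)]; rfl
  rw [e3, e11, show gv R [11] = (gv R [4])⁻¹ from gv_letter_neg R 4] at e
  exact e

theorem E_rel' : SevenRel R R.E := by
  rw [gE]
  exact rel_of_word R (by decide) (by rw [← gE]; exact (E_basic R).1) (by decide +kernel)

end SwapAct

open SwapAct

variable {G : Type*} [Group G]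

theorem swap_of_raw (R : CData G) {x : G} (hx : RawSwap R x) : Swap R x := by
  obtain ⟨hEA, hEC, hET, hUA, hUC, hUE, hAC⟩ := comm_list R
  obtain ⟨hE2, hE1⟩ := E_basic R
  have hxi : x⁻¹ = x := inv_eq_of_mul_eq_one_right hx.sq
  obtain ⟨φ, hφ⟩ : ∃ φ : G →* G, ∀ g, φ g = x⁻¹ * g * x :=
    ⟨(MulAut.conj x⁻¹).toMonoidHom, fun g => by simp⟩
  have pA : φ R.A = R.C := by rw [hφ, hx.x_a]
  have pC : φ R.C = R.A := by rw [hφ, hx.x_c]
  have pS : φ R.S = R.S := by rw [hφ, mul_assoc, ← hx.x_s.eq, inv_mul_cancel_left]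
  have pTx : φ R.T = R.T := by rw [hφ, mul_assoc, ← hx.x_t.eq, inv_mul_cancel_left]
  have hinj : ∀ {g h : G}, φ g = φ h → g = h := fun {g h} e => by
    rw [hφ, hφ] at e; exact mul_left_cancel (mul_right_cancel e)
  have twin : ∀ {g : G}, g * g = 1 → g ≠ 1 → Commute g R.A → Commute g R.C → Commute g R.T →
      SevenRel R g → φ g = gv R [3] ∨ φ g = gv R wX ∨ φ g = gv R wY := by
    intro g h2 h1 ha hc ht hr
    have e2 : φ g * φ g = 1 := by rw [← map_mul, h2, map_one]
    have e1 : φ g ≠ 1 := fun h => h1 (hinj (h.trans (map_one φ).symm))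
    have ea : Commute (φ g) R.A := pC ▸ hc.map φ
    have ec : Commute (φ g) (gv R [1]) := by rw [← gC]; exact pA ▸ ha.map φ
    have et : Commute (φ g) R.T := by have := ht.map φ; rwa [pTx] at this
    have er : SevenRel R (φ g) := by
      have := congrArg φ hr
      simpa only [SevenRel, map_mul, map_inv, map_pow, pS] using this
    obtain ⟨w, hw, q, hq, e, hcond⟩ := exists_cand R (cc := [1]) (by decide) e2 e1 ea ec et er
    have h := (allFrom_iff _ _ _).1 (List.all_eq_true.1 cand_check w hw) q (Nat.zero_le _) (by omega)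
    rw [hcond, Bool.not_true, Bool.false_or, Bool.or_eq_true, Bool.or_eq_true] at h
    have hok := okW_lift liftsComm_ok hw hq
    rw [← e]
    exact h.imp (gv2 R hok (by decide)) (Or.imp (gv2 R hok (by decide)) (gv2 R hok (by decide)))
  obtain ⟨rA, rE1, rX1, rU, rY, rX, rM, rW, rW'⟩ := rel_check
  have hy := twin hE2 hE1 hEA hEC hET (E_rel' R)
  -- the image of `u`
  set v := φ R.U with hv
  have hv2 : v * v = R.A * R.C := by rw [hv, ← map_mul, U_sq, map_mul, pA, pC, hAC.eq]
  have hvA : Commute v R.A := pC ▸ hUC.map φ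
  have hvC : Commute v R.C := pA ▸ hUA.map φ
  have hvy : Commute v (φ R.E) := hUE.map φ
  have hvT : R.T * v = v * R.T⁻¹ := by
    have := congrArg φ (U_T R)
    rwa [map_mul, map_mul, map_inv, pTx] at this
  obtain ⟨w, hw, q, hq, hvw⟩ : ∃ w ∈ liftsInv, ∃ q, q < 512 ∧ v = gv R (w ++ [14 + q]) := by
    set g : cA R := ⟨v, mem_cA R hvA⟩
    have hT' : R.T ∈ cA R := mem_cA R (gT R ▸ gv_mem R _)
    have e2 : sigG R g * sigG R g = 1 := by
      rw [← map_mul, sigG_gv R (g := g * g) (w := [0, 1]) (by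
        show gv R [0, 1] = v * v; rw [hv2, gA, gC, ← gv_append]; rfl)]
      exact enc_injective (by rw [enc_sigW, enc_one]; decide +kernel)
    have eT : (⟨R.T, hT'⟩ : cA R) * g = g * (⟨R.T, hT'⟩ : cA R)⁻¹ := Subtype.ext hvT
    have eT' := congrArg (sigG R) eT
    rw [map_mul, map_mul, map_inv, sigG_gv R (g := ⟨R.T, hT'⟩) (gT R).symm, sigW_pT] at eT'
    have eT2 : sigG R g * pT = pT⁻¹ * sigG R g := by
      refine mul_right_cancel (b := pT⁻¹) ?_
      rw [mul_assoc, mul_inv_cancel, mul_one, mul_assoc, ← eT', ← mul_assoc, inv_mul_cancel, one_mul]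
    obtain ⟨w, hw, hwe⟩ := mem_liftsInv (sigG_even R g) e2 eT2
    obtain ⟨q, hq, hy⟩ := exists_lift R hwe
    exact ⟨w, hw, q, hq, hy⟩
  have hok := okW_lift liftsInv_ok hw hq
  have hu := (allFrom_iff _ _ _).1 (List.all_eq_true.1 u_check w hw) q (Nat.zero_le _) (by omega)
  generalize hV : w ++ [14 + q] = V at hvw hok hu
  have hbase : baseV V = true := by
    simp only [baseV, Bool.and_eq_true]
    refine ⟨(eqB_iff R (okW_append hok hok) rfl).2 ?_, (eqB_iff R (okW_append hok rfl) (okW_append rfl hok)).2 ?_,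
      (eqB_iff R (okW_append rfl hok) (okW_append hok rfl)).2 ?_⟩
    · rw [gv_append, ← hvw, hv2, gA, gC, ← gv_append]; rfl
    · rw [gv_append, gv_append, ← hvw, ← gC]; exact hvC.eq
    · rw [gv_append, gv_append, ← hvw, ← gT, show gv R [12] = (gv R [5])⁻¹ from gv_letter_neg R 5, ← gT]
      exact hvT
  simp only [imp_eq, hbase, Bool.not_true, Bool.false_or, Bool.and_eq_true, Bool.not_eq_true'] at hu
  obtain ⟨huX, huY, hu⟩ := hu
  have hyE : φ R.E = R.E := by
    rcases hy with h | h | h
    · rw [h, ← gE]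
    all_goals exfalso
    · have : eqB (V ++ wX) (wX ++ V) = true :=
        (eqB_iff R (okW_append hok (by decide)) (okW_append (by decide) hok)).2 (by
          rw [gv_append, gv_append, ← hvw, ← h]; exact hvy.eq)
      rw [huX] at this; exact Bool.noConfusion this
    · have : eqB (V ++ wY) (wY ++ V) = true :=
        (eqB_iff R (okW_append hok (by decide)) (okW_append (by decide) hok)).2 (by
          rw [gv_append, gv_append, ← hvw, ← h]; exact hvy.eq)
      rw [huY] at this; exact Bool.noConfusion this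
  have p3 : φ (gv R [3]) = gv R [3] := by rw [← gE]; exact hyE
  have p4 : φ (gv R [4]) = gv R [4] := by rw [← gS]; exact pS
  have p11 : φ (gv R [11]) = gv R [11] := by
    rw [show gv R [11] = (gv R [4])⁻¹ from gv_letter_neg R 4, map_inv, p4]
  have p44 : φ (gv R [4, 4]) = gv R [4, 4] := by rw [gv_cons, map_mul, p4]
  have p1111 : φ (gv R [11, 11]) = gv R [11, 11] := by rw [gv_cons, map_mul, p11]
  have p6 : φ (gv R [6]) = gv R V := by rw [← gU]; exact hvw
  have p01 : φ (gv R [0, 1]) = gv R [0, 1] := by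
    rw [gv_cons, ← gA, ← gC, map_mul, pA, pC, hAC.eq]
  have hmore : moreV V = true := by
    simp only [moreV, Bool.and_eq_true] at rM ⊢
    obtain ⟨m1, m2, m3, m4⟩ := rM
    have hi := invW_ok hok
    have hi6 : okW (invW [6]) = true := invW_ok (by decide)
    have pinv : φ (gv R (invW [6])) = gv R (invW V) := by
      rw [gv_invW R hok, gv_invW R (w := [6]) (by decide), map_inv, p6]
    refine ⟨?_, ?_, ?_, ?_⟩
    · refine (eqB_iff R (okW_append hok rfl) (okW_append rfl hok)).2 ?_
      have := congrArg φ (gv2 R (by decide) (by decide) m1)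
      simpa only [gv_append, map_mul, p3, p6] using this
    · refine (eqB_iff R (okW_append (okW_append (okW_append rfl hok) rfl) rfl)
        (okW_append rfl (okW_append (okW_append rfl hok) rfl))).2 ?_
      have := congrArg φ (gv2 R (by decide) (by decide) m2)
      simpa only [gv_append, map_mul, p1111, p44, p3, p6] using this
    · refine (eqB_iff R (okW_append (okW_append (okW_append hok rfl) (okW_append hok rfl))
        (okW_append hok rfl)) rfl).2 ?_
      have := congrArg φ (gv2 R (by decide) rfl m3)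
      simpa only [gv_append, map_mul, p4, p6, p01] using this
    · have hco : okW (invW V ++ [11] ++ V ++ [4]) = true :=
        okW_append (okW_append (okW_append hi rfl) hok) rfl
      refine (eqB_iff R (okW_append (okW_append hco hco) (okW_append hco hco)) rfl).2 ?_
      have hco6 : okW (invW [6] ++ [11] ++ [6] ++ [4]) = true :=
        okW_append (okW_append (okW_append hi6 rfl) (by decide)) rfl
      have := congrArg φ (gv2 R (okW_append (okW_append hco6 hco6) (okW_append hco6 hco6)) rfl m4)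
      simpa only [gv_append, map_mul, p4, p6, p11, p01, pinv] using this
  rw [hmore, Bool.not_true, Bool.false_or, Bool.or_eq_true] at hu
  -- the image of `d c d e d c d`
  have hX := rX
  simp only [condT, Bool.and_eq_true, Bool.not_eq_true'] at hX
  obtain ⟨x2, xc, xt, xr, xne⟩ := hX
  have okX : okW wX = true := by decide
  have hX2 : gv R wX * gv R wX = 1 := by
    rw [← gv_append, ← gv_nil R]; exact gv2 R (by decide) rfl x2
  have hXZ := twin (g := gv R wX) hX2 (fun h => by
      rw [← gv_nil R] at h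
      rw [(eqB_iff R okX rfl).2 h] at xne; exact Bool.noConfusion xne)
    (gv_mem R _) (by
      show _ * _ = _ * _
      rw [gC, ← gv_append, ← gv_append]; exact gv2 R (by decide) (by decide) xc) (by
      show _ * _ = _ * _
      rw [gT, ← gv_append, ← gv_append]; exact gv2 R (by decide) (by decide) xt)
    (rel_of_word R okX hX2 xr)
  have hAEX : R.C * R.E * φ (gv R wX) = φ (gv R wX) * R.E := by
    have e := gv2 R (by decide) (by decide) rA
    rw [gv_append, gv_append, show gv R [0, 3] = R.A * R.E by rw [gv_cons, ← gA, ← gE], ← gE] at e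
    have := congrArg φ e
    rwa [map_mul, map_mul, map_mul, pA, hyE] at this
  have hXY : φ (gv R wX) = gv R wY := by
    rcases hXZ with h | h | h
    · exfalso
      rw [h] at hAEX
      have : eqB ([1, 3] ++ [3]) ([3] ++ [3]) = true := (eqB_iff R (by decide) (by decide)).2 (by
        rw [gv_append, gv_append, show gv R [1, 3] = R.C * R.E by rw [gv_cons, ← gC, ← gE]]
        rw [← gE] at hAEX ⊢; exact hAEX)
      rw [rE1] at this; exact Bool.noConfusion this
    · exfalso
      rw [h] at hAEX
      have : eqB ([1, 3] ++ wX) (wX ++ [3]) = true := (eqB_iff R (by decide) (by decide)).2 (by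
        rw [gv_append, gv_append, show gv R [1, 3] = R.C * R.E by rw [gv_cons, ← gC, ← gE], ← gE]
        exact hAEX)
      rw [rX1] at this; exact Bool.noConfusion this
    · exact h
  -- the image of `u` is `u e`
  have hUEv : v = R.U * R.E := by
    rcases hu with h | h
    · exfalso
      have e6 := gv2 R hok (by decide) h
      have e := congrArg φ (gv2 R (by decide) (by decide) rU)
      simp only [gv_append, map_mul, hXY, p6, e6, show gv R [13] = (gv R [6])⁻¹ from gv_letter_neg R 6,
        map_inv] at e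
      have : eqB (wY ++ [13]) ([6] ++ wY) = true := (eqB_iff R (by decide) (by decide)).2 (by
        rw [gv_append, gv_append, show gv R [13] = (gv R [6])⁻¹ from gv_letter_neg R 6]; exact e)
      rw [rY] at this; exact Bool.noConfusion this
    · rw [hvw, gv2 R hok (by decide) h, gv_cons, ← gU, ← gE]
  have hXval : gv R wX = R.D * R.C * R.D * R.E * R.D * R.C * R.D := by
    simp only [gD, gC, gE, ← gv_append]; rfl
  have hYval : gv R wY = R.D * R.C * R.D * R.U⁻¹ * R.D * R.C * R.D * R.U := by
    rw [gU, show (gv R [6])⁻¹ = gv R [13] from (gv_letter_neg R 6).symm]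
    simp only [gD, gC, ← gv_append]; rfl
  have hWval : gv R wW = R.D * R.C * R.D * R.U * R.D * R.C * R.D := by
    simp only [gD, gC, gU, ← gv_append]; rfl
  have hW'val : gv R wW' = R.D * R.E * R.D * R.C * R.D * R.C * R.E * R.D * R.U⁻¹ := by
    rw [gU, show (gv R [6])⁻¹ = gv R [13] from (gv_letter_neg R 6).symm]
    simp only [gD, gC, gE, ← gv_append]; rfl
  refine ⟨hx.sq, hx.x_a, hx.x_c, ?_, hx.x_s, hx.x_t, ?_, ?_, ?_⟩
  · have := hyE
    rw [hφ, mul_assoc, inv_mul_eq_iff_eq_mul] at this
    exact this.symm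
  · rw [← hφ, ← hv, hUEv]
  · rw [← hφ, ← hXval, hXY, hYval]
  · have e1 := gv2 R (by decide) (by decide) rW
    have e2 := gv2 R (by decide) (by decide) rW'
    have p346 : φ (gv R [3, 4, 6, 11]) = gv R [3, 4, 6, 3, 11] := by
      rw [show gv R [3, 4, 6, 11] = gv R [3] * gv R [4] * gv R [6] * gv R [11] by simp only [← gv_append]; rfl,
        map_mul, map_mul, map_mul, p3, p4, p11, ← gU, ← hv, hUEv, gU, gE]
      simp only [← gv_append]; rfl
    have p4134 : φ (gv R [4, 4, 13, 4, 4]) = gv R [4, 4] * gv R (invW [6, 3]) * gv R [4, 4] := by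
      rw [show gv R [4, 4, 13, 4, 4] = gv R [4, 4] * gv R [13] * gv R [4, 4] by simp only [← gv_append]; rfl,
        map_mul, map_mul, p44, gv_invW R (w := [6, 3]) (by decide),
        show gv R [13] = (gv R [6])⁻¹ from gv_letter_neg R 6, map_inv, ← gU, ← hv, hUEv,
        show gv R [6, 3] = R.U * R.E by rw [gv_cons, ← gU, ← gE]]
    rw [← hφ, ← hWval, ← hW'val, e1, e2]
    simp only [gv_append, map_mul, p346, p4134, hXY, p11, mul_assoc]

/-- **A swapper exists.** -/
theorem exists_swap [Finite G] (R : CData G) : ∃ x, Swap R x := by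
  obtain ⟨x, hx⟩ := exists_rawSwap R
  exact ⟨x, swap_of_raw R hx⟩

end Cfsg.Agent.ThRel
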