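import Cfsg.Agent.ThRel.Glue
import Cfsg.Agent.ThRel.SwapExists

/-!
# The Thompson group from the centraliser of an involution
-/

set_option autoImplicit false

namespace Cfsg.Agent.ThRel

/-- **Recognition of the Thompson group.** -/
theorem iso_th {G : Type*} [Group G] [Finite G] {z : G} (h : ThLocal.Hyp z) : Spor.IsoTh G :=
  iso_of_local h Model.localFacts exists_swap

end Cfsg.Agent.ThRel
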