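import Cfsg.Agent.ThRel.BeeW

/-!
# The element `b`
-/

set_option autoImplicit false

namespace Cfsg.Agent.ThRel

variable {G : Type*} [Group G] {R : CData G}

/-- The involutions of the four-group `⟨a c, x⟩`. -/
def InV (R : CData G) (x y : G) : Prop := y = R.A * R.C ∨ y = x ∨ y = x * (R.A * R.C)

theorem fix_conj {g h : G} (hc : Commute g h) : g⁻¹ * h * g = h := by
  rw [mul_assoc, ← hc.eq, inv_mul_cancel_left]

theorem AC_sq : R.A * R.C * (R.A * R.C) = 1 := by
  calc R.A * R.C * (R.A * R.C) = R.A * (R.C * R.A) * R.C := by group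
    _ = 1 := by rw [← (AC R).eq, ← mul_assoc, A_sq, one_mul, C_sq]

theorem AC_inv : (R.A * R.C)⁻¹ = R.A * R.C := inv_eq_of_mul_eq_one_right AC_sq

theorem C_ne_Q : R.C ≠ Q R := by
  intro h
  refine A_ne R ?_
  rw [← CQ_sq R, ← h, C_sq, one_mul]

theorem C_not_D : ¬ Commute R.C R.D := fun h => C_ne_Q (R := R) (d_fix R h).symm

theorem AC_not_D : ¬ Commute (R.A * R.C) R.D := fun h =>
  C_not_D (R := R) (by
    have := (AD R).mul_left h
    rwa [← mul_assoc, A_sq, one_mul] at this)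

variable {x : G}

theorem x_AC (hx : Swap R x) : Commute x (R.A * R.C) := by
  have h : x⁻¹ * (R.A * R.C) * x = R.A * R.C := by
    calc x⁻¹ * (R.A * R.C) * x = (x⁻¹ * R.A * x) * (x⁻¹ * R.C * x) := by group
      _ = _ := by rw [hx.x_a, hx.x_c, (AC R).eq]
  calc x * (R.A * R.C) = x * (x⁻¹ * (R.A * R.C) * x) := by rw [h]
    _ = _ := by group

theorem xAC (hx : Swap R x) : x * R.A * x = R.C := by
  have := hx.x_a
  rwa [x_inv hx] at this

theorem xCA (hx : Swap R x) : x * R.C * x = R.A := by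
  have := hx.x_c
  rwa [x_inv hx] at this

theorem C_ne_A : R.C ≠ R.A := fun h => AC_ne R (by rw [h, A_sq])

theorem x_ne_one (hx : Swap R x) : x ≠ 1 := fun h => C_ne_A (R := R) (by
  rw [← hx.x_a, h, inv_one, one_mul, mul_one])

theorem x_ne_A (hx : Swap R x) : x ≠ R.A := fun h => C_ne_A (R := R) (by
  rw [← hx.x_a, h, inv_mul_cancel, one_mul])

theorem x_ne_C (hx : Swap R x) : x ≠ R.C := fun h => C_ne_A (R := R) (by
  rw [← hx.x_c, h, inv_mul_cancel, one_mul])

theorem x_ne_AC (hx : Swap R x) : x ≠ R.A * R.C := fun h => C_ne_A (R := R) (by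
  rw [← hx.x_a, h, fix_conj ((Commute.refl R.A).mul_left (AC R).symm)])

theorem swap_not_D (hx : Swap R x) : ¬ Commute x R.D := fun h => C_ne_Q (R := R) (by
  calc R.C = x⁻¹ * R.A * x := hx.x_a.symm
    _ = R.D * (x⁻¹ * R.A * x) * R.D := (d_fix R ((h.inv_left.mul_left (AD R)).mul_left h)).symm
    _ = Q R := by rw [hx.x_a]; rfl)

theorem xAC_sq (hx : Swap R x) : x * (R.A * R.C) * (x * (R.A * R.C)) = 1 := by
  calc x * (R.A * R.C) * (x * (R.A * R.C)) = x * (R.A * R.C * x) * (R.A * R.C) := by group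
    _ = 1 := by rw [← (x_AC hx).eq, ← mul_assoc x x, hx.sq, one_mul, AC_sq]

theorem swap_mul (hx : Swap R x) : Swap R (x * (R.A * R.C)) := by
  have key : ∀ {m : G}, Commute (R.A * R.C) m →
      (x * (R.A * R.C))⁻¹ * m * (x * (R.A * R.C)) = x⁻¹ * m * x := fun {m} h => by
    rw [(x_AC hx).eq]
    calc (R.A * R.C * x)⁻¹ * m * (R.A * R.C * x) = x⁻¹ * ((R.A * R.C)⁻¹ * m * (R.A * R.C)) * x := by
          group
      _ = x⁻¹ * m * x := by rw [fix_conj h]
  exact
    { sq := xAC_sq hx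
      x_a := (key ((Commute.refl R.A).mul_left (AC R).symm)).trans hx.x_a
      x_c := (key ((AC R).mul_left (Commute.refl R.C))).trans hx.x_c
      x_e := hx.x_e.mul_left ((AE R).mul_left (CE R))
      x_s := hx.x_s.mul_left ((AS R).mul_left (CS R))
      x_t := hx.x_t.mul_left ((AT R).mul_left (CT' R))
      x_u := (key ((AU R).mul_left (CU R))).trans hx.x_u
      x_ded := (key (D_ded_ac R)).trans hx.x_ded
      x_dud := (key (D_dud_ac R)).trans hx.x_dud }

/-- The element of `W` taking `a` to `a c` and normalising `⟨a, c⟩`. -/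
def w0 (R : CData G) (x : G) : G := Q R * x

theorem w0_inv (hx : Swap R x) : (w0 R x)⁻¹ = x * Q R := by
  rw [w0, mul_inv_rev, x_inv hx, inv_eq_of_mul_eq_one_right (Q_sq R)]

theorem Q_conj_A : Q R * R.A * Q R = R.A := by rw [(Q_A R).eq, mul_assoc, Q_sq, mul_one]

theorem Q_conj_AC : Q R * (R.A * R.C) * Q R = R.C := by
  calc Q R * (R.A * R.C) * Q R = (Q R * R.A) * R.C * Q R := by group
    _ = R.A * (Q R * R.C * Q R) := by rw [(Q_A R).eq]; group
    _ = R.C := by rw [QCQ, ← mul_assoc, A_sq, one_mul]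

theorem w0_A (hx : Swap R x) : w0 R x * R.A * (w0 R x)⁻¹ = R.A * R.C := by
  rw [w0_inv hx, w0]
  calc Q R * x * R.A * (x * Q R) = Q R * (x * R.A * x) * Q R := by group
    _ = _ := by rw [xAC hx, QCQ]

theorem w0_C (hx : Swap R x) : w0 R x * R.C * (w0 R x)⁻¹ = R.A := by
  rw [w0_inv hx, w0]
  calc Q R * x * R.C * (x * Q R) = Q R * (x * R.C * x) * Q R := by group
    _ = _ := by rw [xCA hx, Q_conj_A]

theorem w0_AC (hx : Swap R x) : w0 R x * (R.A * R.C) * (w0 R x)⁻¹ = R.C := by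
  calc w0 R x * (R.A * R.C) * (w0 R x)⁻¹ =
        (w0 R x * R.A * (w0 R x)⁻¹) * (w0 R x * R.C * (w0 R x)⁻¹) := by group
    _ = R.C := by rw [w0_A hx, w0_C hx, mul_assoc, ← (AC R).eq, ← mul_assoc, A_sq, one_mul]

theorem w0_mem (hx : Swap R x) : w0 R x ∈ WW R := mul_mem (Q_mem R) (x_mem hx)

theorem CQ_not_inv : R.C * Q R * (R.C * Q R) ≠ 1 := by rw [CQ_sq]; exact A_ne R

theorem QC_not_inv : Q R * R.C * (Q R * R.C) ≠ 1 := by
  intro h
  refine CQ_not_inv (R := R) ?_
  have h1 : Q R * R.C = (Q R * R.C)⁻¹ := eq_inv_of_mul_eq_one_left h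
  rw [mul_inv_rev, inv_eq_of_mul_eq_one_right (C_sq R), inv_eq_of_mul_eq_one_right (Q_sq R)] at h1
  rw [← h1]
  exact h

variable (L : LocalFacts R) (hx : Swap R x)
include L hx

theorem w0_x : w0 R x * Q R * (w0 R x)⁻¹ = x ∨ w0 R x * Q R * (w0 R x)⁻¹ = x * (R.A * R.C) := by
  obtain ⟨y, hy⟩ : ∃ y, y = (w0 R x)⁻¹ * x * (w0 R x) := ⟨_, rfl⟩
  have hback : (w0 R x) * y * (w0 R x)⁻¹ = x := by rw [hy]; group
  have hyA : Commute y R.A := by
    rw [hy]
    have h := (x_AC hx).map (MulAut.conj (w0 R x)⁻¹).toMonoidHom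
    simp only [MulEquiv.coe_toMonoidHom, MulAut.conj_apply, inv_inv] at h
    rwa [show (w0 R x)⁻¹ * (R.A * R.C) * (w0 R x) = R.A by rw [← w0_A hx]; group] at h
  have hysq : y * y = 1 := by
    rw [hy, show (w0 R x)⁻¹ * x * (w0 R x) * ((w0 R x)⁻¹ * x * (w0 R x)) = (w0 R x)⁻¹ * (x * x) * (w0 R x) by group, hx.sq]; group
  rcases oct_of_commute L (mul_mem (mul_mem (inv_mem (w0_mem hx)) (x_mem hx)) (w0_mem hx)) (hy ▸ hyA) with
    h | h | h | h | h | h | h | h <;> rw [← hy] at h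
  · exact (x_ne_one hx (by rw [← hback, h]; group)).elim
  · exact (x_ne_A hx (by rw [← hback, h, w0_C hx])).elim
  · exact (x_ne_AC hx (by rw [← hback, h, w0_A hx])).elim
  · exact (x_ne_C hx (by rw [← hback, h, w0_AC hx])).elim
  · exact Or.inl (by rw [← h, hback])
  · refine Or.inr ?_
    have hA : (w0 R x) * R.A * (w0 R x)⁻¹ = R.A * R.C := w0_A hx
    have hxx : x = R.A * R.C * ((w0 R x) * Q R * (w0 R x)⁻¹) :=
      calc x = (w0 R x) * y * (w0 R x)⁻¹ := hback.symm
        _ = _ := by rw [h, ← hA]; group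
    calc (w0 R x) * Q R * (w0 R x)⁻¹ = (R.A * R.C)⁻¹ * (R.A * R.C * ((w0 R x) * Q R * (w0 R x)⁻¹)) := by group
      _ = x * (R.A * R.C) := by rw [← hxx, AC_inv, (x_AC hx).eq]
  · exact absurd (h ▸ hysq) CQ_not_inv
  · exact absurd (h ▸ hysq) QC_not_inv

omit L in
theorem InV.mem {v : G} (hv : InV R x v) : v ∈ WW R := by
  rcases hv with rfl | rfl | rfl
  exacts [AC_mem R, x_mem hx, mul_mem (x_mem hx) (AC_mem R)]

omit L in
theorem InV.comm {v : G} (hv : InV R x v) : Commute v R.E := by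
  rcases hv with rfl | rfl | rfl
  exacts [(AE R).mul_left (CE R), hx.x_e, hx.x_e.mul_left ((AE R).mul_left (CE R))]

omit L hx in
theorem twin_conj {m : G} (hm : m ∈ WW R) (hA : Commute (m * R.A * m⁻¹) R.E)
    (hQ : Commute (m * Q R * m⁻¹) R.E) : TwinElt R (m⁻¹ * R.E * m) := by
  obtain ⟨hS, hT⟩ := (mem_WW R).1 hm
  have back : ∀ g : G, m⁻¹ * (m * g * m⁻¹) * m = g := fun g => by group
  have cm : ∀ {g : G}, Commute (m * g * m⁻¹) R.E → Commute (m⁻¹ * R.E * m) g := fun {g} h => by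
    have h' := (h.symm).map (MulAut.conj m⁻¹).toMonoidHom
    simp only [MulEquiv.coe_toMonoidHom, MulAut.conj_apply, inv_inv] at h'
    rwa [back] at h'
  refine ⟨?_, ?_, cm hA, ?_, ?_, ?_⟩
  · rw [show m⁻¹ * R.E * m * (m⁻¹ * R.E * m) = m⁻¹ * (R.E * R.E) * m by group, E_sq]; group
  · intro h
    refine E_ne R ?_
    rw [show R.E = m * (m⁻¹ * R.E * m) * m⁻¹ by group, h]; group
  · rw [cd_eq]; exact cm hQ
  · exact ((hT.inv_left).mul_left (ET R)).mul_left hT
  · have hr := E_rel R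
    unfold SevenRel at hr ⊢
    have h3 : m⁻¹ * (R.S ^ 3) * m = R.S ^ 3 := fix_conj (hS.pow_right 3)
    have h1 : m⁻¹ * R.S * m = R.S := fix_conj hS
    have h := congrArg (fun g => m⁻¹ * g * m) hr
    calc _ = m⁻¹ * R.E⁻¹ * m * (m⁻¹ * R.S * m)⁻¹ * (m⁻¹ * R.E * m) * (m⁻¹ * R.S * m) := by
          rw [h1]; group
      _ = m⁻¹ * (R.E⁻¹ * R.S⁻¹ * R.E * R.S) * m := by group
      _ = m⁻¹ * ((R.S ^ 3)⁻¹ * R.E * R.S ^ 3) * m := h
      _ = (m⁻¹ * (R.S ^ 3) * m)⁻¹ * (m⁻¹ * R.E * m) * (m⁻¹ * (R.S ^ 3) * m) := by group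
      _ = _ := by rw [h3]

theorem cent_E {n : G} (hn : n ∈ WW R) (h1 : InV R x (n * (R.A * R.C) * n⁻¹))
    (h2 : InV R x (n * x * n⁻¹)) : Commute n R.E := by
  have hA : Commute ((w0 R x) * R.A * (w0 R x)⁻¹) R.E := by
    rw [w0_A hx]; exact (AE R).mul_left (CE R)
  have hQ : Commute ((w0 R x) * Q R * (w0 R x)⁻¹) R.E := by
    rcases w0_x L hx with h | h <;> rw [h]
    exacts [hx.x_e, hx.x_e.mul_left ((AE R).mul_left (CE R))]
  have hA' : Commute (n * (w0 R x) * R.A * (n * (w0 R x))⁻¹) R.E := by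
    rw [show n * (w0 R x) * R.A * (n * (w0 R x))⁻¹ = n * ((w0 R x) * R.A * (w0 R x)⁻¹) * n⁻¹ by group, w0_A hx]
    exact InV.comm hx h1
  have hQ' : Commute (n * (w0 R x) * Q R * (n * (w0 R x))⁻¹) R.E := by
    rw [show n * (w0 R x) * Q R * (n * (w0 R x))⁻¹ = n * ((w0 R x) * Q R * (w0 R x)⁻¹) * n⁻¹ by group]
    rcases w0_x L hx with h | h <;> rw [h]
    · exact InV.comm hx h2
    · rw [show n * (x * (R.A * R.C)) * n⁻¹ = n * x * n⁻¹ * (n * (R.A * R.C) * n⁻¹) by group]
      exact (InV.comm hx h2).mul_left (InV.comm hx h1)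
  have h := L.twin_unique _ _ (twin_conj (w0_mem hx) hA hQ)
    (twin_conj (mul_mem hn (w0_mem hx)) hA' hQ')
  have h' : R.E = n⁻¹ * R.E * n := by
    have := congrArg (fun g => (w0 R x) * g * (w0 R x)⁻¹) h
    simpa [mul_assoc] using this
  show n * R.E = R.E * n
  nth_rw 1 [h']
  group

omit hx in
theorem cent_small {g : G} (hg : g ∈ WW R) (hA : Commute g R.A) (hE : Commute g R.E) :
    g = 1 ∨ g = R.C ∨ g = R.A ∨ g = R.A * R.C := by
  rcases oct_of_commute L hg hA with rfl | rfl | rfl | rfl | rfl | rfl | rfl | rfl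
  · tauto
  · tauto
  · tauto
  · tauto
  · exact absurd hE (CD_E R)
  · exact absurd hE (ACD_E R)
  · exact absurd hE (CCD_E R)
  · exact absurd hE (CDC_E R)

/-- An element of `W` inducing an element of order three on `⟨a c, x⟩`. -/
theorem exists_rot : ∃ m ∈ WW R, m * (R.A * R.C) * m⁻¹ = x ∧ m * x * m⁻¹ = x * (R.A * R.C) ∧
    m * (x * (R.A * R.C)) * m⁻¹ = R.A * R.C := by
  have hd : R.D * x * R.D ∈ WW R := d_mem R (x_mem hx)
  have hq : (R.D * x * R.D) * R.A * (R.D * x * R.D)⁻¹ = Q R := by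
    rw [mul_inv_rev, mul_inv_rev, D_inv, x_inv hx]
    calc R.D * x * R.D * R.A * (R.D * (x * R.D)) = R.D * (x * (R.D * R.A * R.D) * x) * R.D := by group
      _ = Q R := by rw [d_fix R (AD R), xAC hx]; rfl
  obtain ⟨v, hv, hvA⟩ : ∃ v ∈ WW R, v * R.A * v⁻¹ = x := by
    rcases w0_x L hx with h | h
    · refine ⟨(w0 R x) * (R.D * x * R.D), mul_mem (w0_mem hx) hd, ?_⟩
      calc (w0 R x) * (R.D * x * R.D) * R.A * ((w0 R x) * (R.D * x * R.D))⁻¹ =
            (w0 R x) * ((R.D * x * R.D) * R.A * (R.D * x * R.D)⁻¹) * (w0 R x)⁻¹ := by group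
        _ = x := by rw [hq, h]
    · refine ⟨(w0 R x) * (R.C * (R.D * x * R.D)), mul_mem (w0_mem hx) (mul_mem (C_mem R) hd), ?_⟩
      calc (w0 R x) * (R.C * (R.D * x * R.D)) * R.A * ((w0 R x) * (R.C * (R.D * x * R.D)))⁻¹ =
          (w0 R x) * (R.C * ((R.D * x * R.D) * R.A * (R.D * x * R.D)⁻¹) * R.C⁻¹) * (w0 R x)⁻¹ := by group
        _ = (w0 R x) * (R.A * Q R) * (w0 R x)⁻¹ := by rw [hq, inv_eq_of_mul_eq_one_right (C_sq R), CQC]
        _ = ((w0 R x) * R.A * (w0 R x)⁻¹) * ((w0 R x) * Q R * (w0 R x)⁻¹) := by group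
        _ = x := by rw [h, w0_A hx, ← mul_assoc, ← (x_AC hx).eq, mul_assoc, AC_sq, mul_one]
  obtain ⟨z, hz⟩ : ∃ z, z = v⁻¹ * (R.A * R.C) * v := ⟨_, rfl⟩
  have hback : v * z * v⁻¹ = R.A * R.C := by rw [hz]; group
  have hzA : Commute z R.A := by
    rw [hz]
    have h := (x_AC hx).symm.map (MulAut.conj v⁻¹).toMonoidHom
    simp only [MulEquiv.coe_toMonoidHom, MulAut.conj_apply, inv_inv] at h
    rwa [show v⁻¹ * x * v = R.A by rw [← hvA]; group] at h
  have hzsq : z * z = 1 := by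
    rw [hz, show v⁻¹ * (R.A * R.C) * v * (v⁻¹ * (R.A * R.C) * v) =
      v⁻¹ * (R.A * R.C * (R.A * R.C)) * v by group, AC_sq]; group
  obtain ⟨s, hs, hsA, hsz⟩ : ∃ s ∈ WW R, s * R.A * s⁻¹ = R.A ∧ s * z * s⁻¹ = R.A * z := by
    have hQi : (Q R)⁻¹ = Q R := inv_eq_of_mul_eq_one_right (Q_sq R)
    have hCi : R.C⁻¹ = R.C := inv_eq_of_mul_eq_one_right (C_sq R)
    have hCA : R.C * R.A * R.C = R.A := by rw [← (AC R).eq, mul_assoc, C_sq, mul_one]
    rcases oct_of_commute L (mul_mem (mul_mem (inv_mem hv) (AC_mem R)) hv) (hz ▸ hzA) with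
      h | h | h | h | h | h | h | h <;> rw [← hz] at h
    · exact (AC_ne R (by rw [← hback, h]; group)).elim
    · exact ⟨Q R, Q_mem R, by rw [hQi, Q_conj_A], by rw [hQi, h, QCQ]⟩
    · exact (x_ne_AC hx (by rw [← hback, h, hvA])).elim
    · exact ⟨Q R, Q_mem R, by rw [hQi, Q_conj_A],
        by rw [hQi, h, Q_conj_AC, ← mul_assoc, A_sq, one_mul]⟩
    · exact ⟨R.C, C_mem R, by rw [hCi, hCA], by rw [hCi, h, CQC]⟩
    · refine ⟨R.C, C_mem R, by rw [hCi, hCA], ?_⟩
      rw [hCi, h, ← mul_assoc R.A R.A, A_sq, one_mul]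
      calc R.C * (R.A * Q R) * R.C = (R.C * R.A) * Q R * R.C := by group
        _ = R.A * (R.C * Q R * R.C) := by rw [← (AC R).eq]; group
        _ = Q R := by rw [CQC, ← mul_assoc, A_sq, one_mul]
    · exact absurd (h ▸ hzsq) CQ_not_inv
    · exact absurd (h ▸ hzsq) QC_not_inv
  set r := v * s * v⁻¹ with hr
  have hrx : r * x * r⁻¹ = x := by
    calc r * x * r⁻¹ = v * (s * (v⁻¹ * x * v) * s⁻¹) * v⁻¹ := by rw [hr]; group
      _ = x := by rw [show v⁻¹ * x * v = R.A by rw [← hvA]; group, hsA, hvA]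
  have hrAC : r * (R.A * R.C) * r⁻¹ = x * (R.A * R.C) := by
    calc r * (R.A * R.C) * r⁻¹ = v * (s * z * s⁻¹) * v⁻¹ := by rw [hr, hz]; group
      _ = (v * R.A * v⁻¹) * (v * z * v⁻¹) := by rw [hsz]; group
      _ = _ := by rw [hvA, hback]
  have hAx : R.A * x * R.A⁻¹ = x * (R.A * R.C) := by
    rw [inv_eq_of_mul_eq_one_right (A_sq R), (AC R).eq, ← mul_assoc x]
    calc R.A * x * R.A = x * (x⁻¹ * R.A * x) * R.A := by group
      _ = _ := by rw [hx.x_a]
  have hAAC : R.A * (R.A * R.C) * R.A⁻¹ = R.A * R.C := by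
    rw [((Commute.refl R.A).mul_right (AC R)).eq, mul_inv_cancel_right]
  have hAxAC : R.A * (x * (R.A * R.C)) * R.A⁻¹ = x := by
    calc R.A * (x * (R.A * R.C)) * R.A⁻¹ = (R.A * x * R.A⁻¹) * (R.A * (R.A * R.C) * R.A⁻¹) := by group
      _ = x := by rw [hAx, hAAC, mul_assoc, AC_sq, mul_one]
  refine ⟨R.A * r, mul_mem (A_mem R) (mul_mem (mul_mem hv hs) (inv_mem hv)), ?_, ?_, ?_⟩
  · calc R.A * r * (R.A * R.C) * (R.A * r)⁻¹ = R.A * (r * (R.A * R.C) * r⁻¹) * R.A⁻¹ := by group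
      _ = x := by rw [hrAC, hAxAC]
  · calc R.A * r * x * (R.A * r)⁻¹ = R.A * (r * x * r⁻¹) * R.A⁻¹ := by group
      _ = _ := by rw [hrx, hAx]
  · calc R.A * r * (x * (R.A * R.C)) * (R.A * r)⁻¹ =
        R.A * ((r * x * r⁻¹) * (r * (R.A * R.C) * r⁻¹)) * R.A⁻¹ := by group
      _ = _ := by rw [hrx, hrAC, ← mul_assoc x x, hx.sq, one_mul, hAAC]

omit L hx in
theorem seven_le_index [Finite G] [IsSimpleGroup (WW R)] (h168 : Nat.card (WW R) = 168)
    {K : Subgroup (WW R)} (hK : K ≠ ⊤) : 7 ≤ K.index := by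
  classical
  have hinj : Function.Injective (MulAction.toPermHom (WW R) (WW R ⧸ K)) := by
    rw [← MonoidHom.ker_eq_bot_iff, ← Subgroup.normalCore_eq_ker]
    exact ((Subgroup.normalCore_normal K).eq_bot_or_eq_top).resolve_right fun h =>
      hK (top_unique (h ▸ K.normalCore_le))
  have h := Subgroup.card_dvd_of_injective _ hinj
  rw [Nat.card_perm, h168, show Nat.card (WW R ⧸ K) = K.index from rfl] at h
  exact (Nat.Prime.dvd_factorial (by norm_num)).1 ((Dvd.intro 24 rfl).trans h)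

/-- The centraliser of `e` in `W`. -/
def KE (R : CData G) : Subgroup (WW R) := (Subgroup.centralizer ({R.E} : Set G)).subgroupOf (WW R)

omit L hx in
theorem mem_KE {g : WW R} : g ∈ KE R ↔ Commute (g : G) R.E :=
  Subgroup.mem_subgroupOf.trans Subgroup.mem_centralizer_singleton_iff

/-- The involutions of `⟨a c, x⟩` inside `W`. -/
def VS (R : CData G) (x : G) : Set (WW R) := {g | InV R x g}

theorem card_KE [Finite G] :
    Nat.card (KE R) = 24 ∧ KE R ≤ Subgroup.normalizer (VS R x) := by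
  obtain ⟨h168, hs⟩ := WW_facts L hx
  have := hs
  set H := Subgroup.centralizer ({aW R} : Set (WW R)) with hH
  have hH8 : Nat.card H = 8 := by
    obtain ⟨e⟩ := cent_dihedral L
    rw [hH, Nat.card_congr e.toEquiv, DihedralGroup.nat_card]
  have hHi : H.index = 21 := by
    have := H.card_mul_index
    rw [h168, hH8] at this
    omega
  have hle : Nat.card (KE R) ≤ 84 := by
    have h4 : Nat.card (H.subgroupOf (KE R)) ≤ 4 := by
      classical
      let F : Finset G := {1, R.C, R.A, R.A * R.C}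
      have hF : F.card ≤ 4 := Finset.card_le_four
      refine le_trans ?_ hF
      rw [← Nat.card_eq_finsetCard]
      refine Nat.card_le_card_of_injective (fun g => ⟨((g : KE R) : WW R), ?_⟩) ?_
      · have hm : Commute (((g : KE R) : WW R) : G) R.A :=
          congrArg Subtype.val (Subgroup.mem_centralizer_singleton_iff.1 g.2)
        have := cent_small L ((g : KE R) : WW R).2 hm (mem_KE.1 (g : KE R).2)
        simpa [F] using this
      · intro g g' h
        exact Subtype.ext (Subtype.ext (Subtype.ext (Subtype.mk.inj h)))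
    have h21 : (H.subgroupOf (KE R)).index ≤ 21 := by
      show H.relIndex (KE R) ≤ 21
      have := Subgroup.relIndex_le_of_le_right (H := H) (K := KE R) (L := ⊤) le_top
        (by rw [Subgroup.relIndex_top_right]; exact Subgroup.index_ne_zero_of_finite)
      rwa [Subgroup.relIndex_top_right, hHi] at this
    rw [← (H.subgroupOf (KE R)).card_mul_index]
    exact Nat.mul_le_mul h4 h21
  have hne : KE R ≠ ⊤ := by
    intro h
    have hq : (⟨Q R, Q_mem R⟩ : WW R) ∈ KE R := h ▸ Subgroup.mem_top _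
    exact CD_E R (mem_KE.1 hq)
  have h24 : Nat.card (KE R) ≤ 24 := by
    have h7 := seven_le_index h168 hne
    have := (KE R).card_mul_index
    rw [h168] at this
    nlinarith
  set N := Subgroup.normalizer (VS R x) ⊓ KE R with hN
  have memN : ∀ {g : G} (hg : g ∈ WW R), InV R x (g * (R.A * R.C) * g⁻¹) → InV R x (g * x * g⁻¹) →
      InV R x (g * (x * (R.A * R.C)) * g⁻¹) → (⟨g, hg⟩ : WW R) ∈ N := fun {g} hg a b c => by
    refine ⟨Subgroup.mem_normalizer_fintype fun n hn => ?_, mem_KE.2 (cent_E L hx hg a b)⟩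
    show InV R x (g * (n : G) * g⁻¹)
    rcases (hn : InV R x (n : G)) with h | h | h <;> rw [h] <;> assumption
  have hAm : (aW R : WW R) ∈ N := by
    have hi := inv_eq_of_mul_eq_one_right (A_sq R)
    have e1 : R.A * (R.A * R.C) * R.A⁻¹ = R.A * R.C := by
      rw [((Commute.refl R.A).mul_right (AC R)).eq, mul_inv_cancel_right]
    have e2 : R.A * x * R.A⁻¹ = x * (R.A * R.C) := by
      rw [hi, (AC R).eq, ← mul_assoc x]
      calc R.A * x * R.A = x * (x⁻¹ * R.A * x) * R.A := by group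
        _ = _ := by rw [hx.x_a]
    refine memN (A_mem R) (Or.inl e1) (Or.inr (Or.inr e2)) (Or.inr (Or.inl ?_))
    calc R.A * (x * (R.A * R.C)) * R.A⁻¹ = (R.A * x * R.A⁻¹) * (R.A * (R.A * R.C) * R.A⁻¹) := by group
      _ = x := by rw [e1, e2, mul_assoc, AC_sq, mul_one]
  have hACm : (⟨R.A * R.C, AC_mem R⟩ : WW R) ∈ N := by
    have hc : ∀ {g : G}, Commute (R.A * R.C) g → R.A * R.C * g * (R.A * R.C)⁻¹ = g := fun {g} h => by
      rw [h.eq, mul_inv_cancel_right]
    exact memN (AC_mem R) (Or.inl (hc (Commute.refl _))) (Or.inr (Or.inl (hc (x_AC hx).symm)))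
      (Or.inr (Or.inr (hc ((x_AC hx).symm.mul_right (Commute.refl _)))))
  have hxm : (⟨x, x_mem hx⟩ : WW R) ∈ N := by
    have hc : ∀ {g : G}, Commute x g → x * g * x⁻¹ = g := fun {g} h => by
      rw [h.eq, mul_inv_cancel_right]
    exact memN (x_mem hx) (Or.inl (hc (x_AC hx))) (Or.inr (Or.inl (hc (Commute.refl _))))
      (Or.inr (Or.inr (hc ((Commute.refl _).mul_right (x_AC hx)))))
  have h8 : 8 ∣ Nat.card N := by
    let w : WW R := ⟨w0 R x, w0_mem hx⟩
    have hsub : H.map (MulAut.conj w).toMonoidHom ≤ N := by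
      rintro _ ⟨g, hg, rfl⟩
      have hA' : MulAut.conj w (aW R) ∈ N := by
        rw [show MulAut.conj w (aW R) = (⟨R.A * R.C, AC_mem R⟩ : WW R) from Subtype.ext (w0_A hx)]
        exact hACm
      have hC' : MulAut.conj w (⟨R.C, C_mem R⟩ : WW R) ∈ N := by
        rw [show MulAut.conj w (⟨R.C, C_mem R⟩ : WW R) = aW R from Subtype.ext (w0_C hx)]
        exact hAm
      have hQ' : MulAut.conj w (⟨Q R, Q_mem R⟩ : WW R) ∈ N := by
        rcases w0_x L hx with h | h
        · rw [show MulAut.conj w (⟨Q R, Q_mem R⟩ : WW R) = ⟨x, x_mem hx⟩ from Subtype.ext h]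
          exact hxm
        · rw [show MulAut.conj w (⟨Q R, Q_mem R⟩ : WW R) = ⟨x, x_mem hx⟩ * ⟨R.A * R.C, AC_mem R⟩
            from Subtype.ext h]
          exact mul_mem hxm hACm
      have hm : Commute (g : G) R.A := congrArg Subtype.val (Subgroup.mem_centralizer_singleton_iff.1 hg)
      show MulAut.conj w g ∈ N
      rcases oct_of_commute L g.2 hm with h | h | h | h | h | h | h | h
      · rw [show g = 1 from Subtype.ext h, map_one]; exact one_mem _
      · rw [show g = ⟨R.C, C_mem R⟩ from Subtype.ext h]; exact hC'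
      · rw [show g = aW R from Subtype.ext h]; exact hA'
      · rw [show g = aW R * ⟨R.C, C_mem R⟩ from Subtype.ext h, map_mul]; exact mul_mem hA' hC'
      · rw [show g = ⟨Q R, Q_mem R⟩ from Subtype.ext h]; exact hQ'
      · rw [show g = aW R * ⟨Q R, Q_mem R⟩ from Subtype.ext h, map_mul]; exact mul_mem hA' hQ'
      · rw [show g = (⟨R.C, C_mem R⟩ : WW R) * ⟨Q R, Q_mem R⟩ from Subtype.ext h, map_mul]
        exact mul_mem hC' hQ'
      · rw [show g = (⟨Q R, Q_mem R⟩ : WW R) * ⟨R.C, C_mem R⟩ from Subtype.ext h, map_mul]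
        exact mul_mem hQ' hC'
    have := Subgroup.card_dvd_of_le hsub
    rwa [Subgroup.card_map_of_injective (MulAut.conj w).injective, hH8] at this
  have h3 : 3 ∣ Nat.card N := by
    obtain ⟨m, hm, e1, e2, e3⟩ := exists_rot L hx
    have hmN : (⟨m, hm⟩ : WW R) ∈ N :=
      memN hm (Or.inr (Or.inl e1)) (Or.inr (Or.inr e2)) (Or.inl e3)
    have hm2 : m ^ 2 * (R.A * R.C) * (m ^ 2)⁻¹ = x * (R.A * R.C) := by
      rw [← e2, ← e1]; simp only [pow_succ, pow_zero, one_mul, mul_inv_rev, mul_assoc]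
    have hm3 : Commute (m ^ 3) (R.A * R.C) := by
      have : m ^ 3 * (R.A * R.C) * (m ^ 3)⁻¹ = R.A * R.C := by
        conv_rhs => rw [← e3, ← hm2]
        simp only [pow_succ, pow_zero, one_mul, mul_inv_rev, mul_assoc]
      show m ^ 3 * (R.A * R.C) = R.A * R.C * m ^ 3
      nth_rw 2 [← this]
      group
    refine dvd_trans ?_ (Subgroup.orderOf_dvd_natCard (s := N) hmN)
    rw [← Subgroup.orderOf_coe]
    have ho : m ^ (orderOf m % 3) * (R.A * R.C) * (m ^ (orderOf m % 3))⁻¹ = R.A * R.C := by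
      have hfix : m ^ orderOf m * (R.A * R.C) * (m ^ orderOf m)⁻¹ = R.A * R.C := by
        rw [pow_orderOf_eq_one]; group
      have hpow : m ^ orderOf m = m ^ (orderOf m % 3) * (m ^ 3) ^ (orderOf m / 3) := by
        rw [← pow_mul, ← pow_add, Nat.mod_add_div]
      conv_rhs => rw [← hfix, hpow]
      rw [mul_assoc (m ^ (orderOf m % 3)) _ (R.A * R.C), (hm3.pow_left _).eq]
      group
    show 3 ∣ orderOf m
    refine Nat.dvd_of_mod_eq_zero ?_
    have hlt : orderOf m % 3 < 3 := Nat.mod_lt _ (by norm_num)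
    interval_cases hr : orderOf m % 3
    · rfl
    · rw [pow_one, e1] at ho
      exact (x_ne_AC hx ho).elim
    · rw [hm2] at ho
      exact (x_ne_one hx (mul_right_cancel (ho.trans (one_mul _).symm))).elim
  have h24' : 24 ∣ Nat.card N := Nat.Coprime.mul_dvd_of_dvd_of_dvd (m := 8) (n := 3) (by norm_num) h8 h3
  have hNK : Nat.card N ≤ Nat.card (KE R) := Nat.le_of_dvd Nat.card_pos (Subgroup.card_dvd_of_le inf_le_right)
  have hNe : N = KE R :=
    Subgroup.eq_of_le_of_card_ge inf_le_right (le_trans h24 (Nat.le_of_dvd Nat.card_pos h24'))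
  refine ⟨le_antisymm h24 ?_, hNe ▸ inf_le_left⟩
  exact le_trans (Nat.le_of_dvd Nat.card_pos h24') hNK

omit L hx in
/-- Conjugation by `d` on `W`. -/
def dW (R : CData G) : WW R ≃* WW R where
  toFun w := ⟨R.D * w * R.D, d_mem R w.2⟩
  invFun w := ⟨R.D * w * R.D, d_mem R w.2⟩
  left_inv w := Subtype.ext (d_d R _)
  right_inv w := Subtype.ext (d_d R _)
  map_mul' v w := Subtype.ext (by
    show R.D * (v * w : G) * R.D = R.D * (v : G) * R.D * (R.D * (w : G) * R.D)
    rw [show R.D * (v : G) * R.D * (R.D * (w : G) * R.D) =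
      R.D * (v : G) * (R.D * R.D) * (w : G) * R.D by group, D_sq, mul_one]
    group)

/-- An element of `W` moving `a` and commuting with `d` and `e`. -/
theorem exists_move_de [Finite G] :
    ∃ g ∈ WW R, Commute g R.D ∧ Commute g R.E ∧ ¬ Commute g R.A := by
  obtain ⟨h168, hs⟩ := WW_facts L hx
  obtain ⟨h24, -⟩ := card_KE L hx
  set K := KE R
  set K' := K.map (dW R).toMonoidHom with hK'
  have hK'24 : Nat.card K' = 24 := by
    rw [hK', Subgroup.card_map_of_injective (dW R).injective, h24]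
  have h7 : K'.index = 7 := by
    have := K'.card_mul_index
    rw [h168, hK'24] at this
    omega
  have hrel : (K'.subgroupOf K).index ≤ 7 := by
    show K'.relIndex K ≤ 7
    have := Subgroup.relIndex_le_of_le_right (H := K') (K := K) (L := ⊤) le_top
      (by rw [Subgroup.relIndex_top_right]; exact Subgroup.index_ne_zero_of_finite)
    rwa [Subgroup.relIndex_top_right, h7] at this
  have hI : 3 ≤ Nat.card (K'.subgroupOf K) := by
    have := (K'.subgroupOf K).card_mul_index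
    rw [h24] at this
    nlinarith
  by_contra hcon
  push Not at hcon
  classical
  have key : ∀ g : K'.subgroupOf K, (((g : K) : WW R) : G) ∈ ({1, R.A} : Finset G) := by
    rintro ⟨⟨g, hgK⟩, hgK'⟩
    obtain ⟨k, hk, hkg⟩ := Subgroup.mem_subgroupOf.1 hgK'
    have hkg' : R.D * (k : G) * R.D = (g : G) := congrArg Subtype.val hkg
    have hgE : Commute (g : G) R.E := mem_KE.1 hgK
    have hkE : Commute (k : G) R.E := mem_KE.1 hk
    have hk2 : (k : G) = R.D * g * R.D := by rw [← hkg', d_d]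
    have hgD : Commute (g : G) R.D := by
      have hfix : R.D * (g : G) * R.D = g := by
        have h1 : R.E * (R.D * g * R.D) * R.E = R.D * g * R.D := by
          rw [← hk2, ← hkE.eq, mul_assoc, E_sq, mul_one]
        have h2 : R.E * g * R.E = (g : G) := by rw [← hgE.eq, mul_assoc, E_sq, mul_one]
        calc R.D * (g : G) * R.D = R.E * R.D * (R.E * g * R.E) * R.D * R.E := by
              rw [h2]
              conv_lhs => rw [← h1]
              group
          _ = (R.E * R.D * R.E) * g * (R.E * R.D * R.E) := by group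
          _ = (R.D * R.E * R.D) * g * (R.D * R.E * R.D) := by rw [DED]
          _ = R.D * (R.E * (R.D * g * R.D) * R.E) * R.D := by group
          _ = g := by rw [h1, d_d]
      show (g : G) * R.D = R.D * g
      nth_rw 1 [← hfix]
      rw [mul_assoc, D_sq, mul_one]
    rcases cent_small L g.2 (hcon g g.2 hgD hgE) hgE with h | h | h | h
    · simp [h]
    · exact (C_not_D (h ▸ hgD)).elim
    · simp [h]
    · exact (AC_not_D (h ▸ hgD)).elim
  have hle : Nat.card (K'.subgroupOf K) ≤ 2 := by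
    refine le_trans ?_ (Finset.card_le_two (a := (1 : G)) (b := R.A))
    rw [← Nat.card_eq_finsetCard]
    refine Nat.card_le_card_of_injective (fun g => ⟨_, key g⟩) ?_
    intro g g' h
    exact Subtype.ext (Subtype.ext (Subtype.ext (Subtype.mk.inj h)))
  omega

omit L hx in
/-- The relators with `b`. -/
theorem exists_bdata_of_swap [Finite G] (R : CData G) (L : LocalFacts R) {x : G} (hx : Swap R x) :
    ∃ b, BData R b := by
  obtain ⟨g, hg, hgD, hgE, hgA⟩ := exists_move_de L hx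
  obtain ⟨-, hKN⟩ := card_KE L hx
  obtain ⟨b, hb⟩ : ∃ b, b = g⁻¹ * R.A * g := ⟨_, rfl⟩
  have hbW : b ∈ WW R := hb ▸ mul_mem (mul_mem (inv_mem hg) (A_mem R)) hg
  have hbb : b * b = 1 := by
    rw [hb, show g⁻¹ * R.A * g * (g⁻¹ * R.A * g) = g⁻¹ * (R.A * R.A) * g by group, A_sq]; group
  have hbi : b⁻¹ = b := inv_eq_of_mul_eq_one_right hbb
  have hbD : Commute b R.D := hb ▸ (hgD.inv_left.mul_left (AD R)).mul_left hgD
  have hbE : Commute b R.E := hb ▸ (hgE.inv_left.mul_left (AE R)).mul_left hgE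
  obtain ⟨hbS, hbT⟩ := (mem_WW R).1 hbW
  have hbA : b ≠ R.A := by
    intro h
    refine hgA ?_
    show g * R.A = R.A * g
    calc g * R.A = g * (g⁻¹ * R.A * g) := by rw [← hb, h]
      _ = R.A * g := by group
  have hb1 : b ≠ 1 := by
    intro h
    refine A_ne R ?_
    rw [show R.A = g * b * g⁻¹ by rw [hb]; group, h]; group
  have hnorm := hKN (show (⟨b, hbW⟩ : WW R) ∈ KE R from mem_KE.2 hbE)
  have hin : InV R x (b * (R.A * R.C) * b⁻¹) :=
    ((Subgroup.mem_set_normalizer_iff.1 hnorm) ⟨R.A * R.C, AC_mem R⟩).1 (Or.inl rfl)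
  have hmove : b * (R.A * R.C) * b⁻¹ ≠ R.A * R.C := by
    intro h
    have hc : Commute b (R.A * R.C) := by
      show b * (R.A * R.C) = R.A * R.C * b
      nth_rw 2 [← h]; group
    obtain ⟨y, hy⟩ : ∃ y, y = (w0 R x)⁻¹ * b * (w0 R x) := ⟨_, rfl⟩
    have hback : (w0 R x) * y * (w0 R x)⁻¹ = b := by rw [hy]; group
    have hyA : Commute y R.A := by
      rw [hy]
      have h' := hc.map (MulAut.conj (w0 R x)⁻¹).toMonoidHom
      simp only [MulEquiv.coe_toMonoidHom, MulAut.conj_apply, inv_inv] at h'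
      rwa [show (w0 R x)⁻¹ * (R.A * R.C) * (w0 R x) = R.A by rw [← w0_A hx]; group] at h'
    have hysq : y * y = 1 := by
      rw [hy, show (w0 R x)⁻¹ * b * (w0 R x) * ((w0 R x)⁻¹ * b * (w0 R x)) = (w0 R x)⁻¹ * (b * b) * (w0 R x) by group, hbb]; group
    rcases oct_of_commute L (mul_mem (mul_mem (inv_mem (w0_mem hx)) hbW) (w0_mem hx)) (hy ▸ hyA) with
      h' | h' | h' | h' | h' | h' | h' | h' <;> rw [← hy] at h'
    · exact hb1 (by rw [← hback, h']; group)
    · exact hbA (by rw [← hback, h', w0_C hx])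
    · exact AC_not_D (R := R) (by rwa [← hback, h', w0_A hx] at hbD)
    · exact C_not_D (R := R) (by rwa [← hback, h', w0_AC hx] at hbD)
    · rw [← hback, h'] at hbD
      rcases w0_x L hx with e | e <;> rw [e] at hbD
      exacts [swap_not_D hx hbD, swap_not_D (swap_mul hx) hbD]
    · rw [← hback, h', show w0 R x * (R.A * Q R) * (w0 R x)⁻¹ =
        (w0 R x * R.A * (w0 R x)⁻¹) * (w0 R x * Q R * (w0 R x)⁻¹) by group, w0_A hx] at hbD
      rcases w0_x L hx with e | e <;> rw [e] at hbD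
      · rw [← (x_AC hx).eq] at hbD
        exact swap_not_D (swap_mul hx) hbD
      · rw [← mul_assoc, ← (x_AC hx).eq, mul_assoc, AC_sq, mul_one] at hbD
        exact swap_not_D hx hbD
    · exact CQ_not_inv (h' ▸ hysq)
    · exact QC_not_inv (h' ▸ hysq)
  obtain ⟨x', hx', hbx, hVx⟩ : ∃ x', Swap R x' ∧ b * (R.A * R.C) * b = x' ∧
      ((w0 R x) * Q R * (w0 R x)⁻¹ = x' ∨ (w0 R x) * Q R * (w0 R x)⁻¹ = x' * (R.A * R.C)) := by
    have hd : x * (R.A * R.C) * (R.A * R.C) = x := by rw [mul_assoc, AC_sq, mul_one]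
    rw [hbi] at hin hmove
    rcases hin with h | h | h
    · exact (hmove h).elim
    · exact ⟨x, hx, h, w0_x L hx⟩
    · refine ⟨_, swap_mul hx, h, ?_⟩
      rcases w0_x L hx with e | e
      · exact Or.inr (by rw [hd, e])
      · exact Or.inl e
  obtain ⟨v, hv⟩ : ∃ v, v = R.A * R.C := ⟨_, rfl⟩
  rw [← hv] at hbx hVx
  have hvA : R.A * v = v * R.A := hv ▸ ((Commute.refl R.A).mul_right (AC R)).eq
  have hAxA : R.A * x' * R.A = x' * v := by
    rw [hv, (AC R).eq, ← mul_assoc x']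
    calc R.A * x' * R.A = x' * (x'⁻¹ * R.A * x') * R.A := by group
      _ = _ := by rw [hx'.x_a]
  have Ax : R.A * x' = x' * v * R.A := by
    rw [← hAxA, mul_assoc (R.A * x'), A_sq, mul_one]
  have Ax2 : R.A * (x' * v) = x' * R.A := by
    rw [← mul_assoc, Ax, mul_assoc, hvA, ← mul_assoc, mul_assoc x' v v, hv, AC_sq, mul_one]
  have bv : b * v = x' * b := by rw [← hbx, mul_assoc (b * v), hbb, mul_one]
  have bx : b * x' = v * b := by rw [← hbx, ← mul_assoc, ← mul_assoc, hbb, one_mul]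
  have bx2 : b * (x' * v) = x' * v * b := by
    rw [← mul_assoc, bx, mul_assoc, bv, ← mul_assoc, hv, (x_AC hx').eq]
  -- the element `a b`
  have M1 : R.A * b * v = x' * v * (R.A * b) := by rw [mul_assoc, bv, ← mul_assoc, Ax, mul_assoc]
  have M2 : R.A * b * x' = v * (R.A * b) := by rw [mul_assoc, bx, ← mul_assoc, hvA, mul_assoc]
  have M3 : R.A * b * (x' * v) = x' * (R.A * b) := by
    rw [mul_assoc, bx2, ← mul_assoc, Ax2, mul_assoc]
  obtain ⟨M, hM⟩ : ∃ M, M = R.A * b := ⟨_, rfl⟩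
  rw [← hM] at M1 M2 M3
  have hMW : M ^ 3 ∈ WW R := hM ▸ pow_mem (mul_mem (A_mem R) hbW) 3
  have hMD : Commute (M ^ 3) R.D := hM ▸ ((AD R).mul_left hbD).pow_left 3
  have hMv : Commute (M ^ 3) v := by
    show M ^ 3 * v = v * M ^ 3
    calc M ^ 3 * v = M * M * (M * v) := by simp only [pow_succ, pow_zero, one_mul, mul_assoc]
      _ = M * (M * (x' * v)) * M := by rw [M1]; group
      _ = (M * x') * M * M := by rw [M3]; group
      _ = v * M ^ 3 := by rw [M2]; simp only [pow_succ, pow_zero, one_mul, mul_assoc]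
  have hMx : Commute (M ^ 3) x' := by
    show M ^ 3 * x' = x' * M ^ 3
    calc M ^ 3 * x' = M * M * (M * x') := by simp only [pow_succ, pow_zero, one_mul, mul_assoc]
      _ = M * (M * v) * M := by rw [M2]; group
      _ = (M * (x' * v)) * M * M := by rw [M1]; group
      _ = x' * M ^ 3 := by rw [M3]; simp only [pow_succ, pow_zero, one_mul, mul_assoc]
  have hM3 : M ^ 3 = 1 := by
    obtain ⟨y, hy⟩ : ∃ y, y = (w0 R x)⁻¹ * M ^ 3 * (w0 R x) := ⟨_, rfl⟩
    have hback : (w0 R x) * y * (w0 R x)⁻¹ = M ^ 3 := by rw [hy]; group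
    have hyA : Commute y R.A := by
      rw [hy]
      have h' := hMv.map (MulAut.conj (w0 R x)⁻¹).toMonoidHom
      simp only [MulEquiv.coe_toMonoidHom, MulAut.conj_apply, inv_inv] at h'
      rwa [show (w0 R x)⁻¹ * v * (w0 R x) = R.A by rw [hv, ← w0_A hx]; group] at h'
    have hyQ : Commute y (Q R) := by
      rw [hy]
      have hq : Commute (M ^ 3) ((w0 R x) * Q R * (w0 R x)⁻¹) := by
        rcases hVx with e | e <;> rw [e]
        exacts [hMx, hMx.mul_right hMv]
      have h' := hq.map (MulAut.conj (w0 R x)⁻¹).toMonoidHom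
      simp only [MulEquiv.coe_toMonoidHom, MulAut.conj_apply, inv_inv] at h'
      rwa [show (w0 R x)⁻¹ * ((w0 R x) * Q R * (w0 R x)⁻¹) * (w0 R x) = Q R by group] at h'
    have hCQ : ¬ Commute R.C (Q R) := by
      intro hc
      refine A_ne R ?_
      rw [← CQ_sq R]
      nth_rw 2 [hc.eq]
      rw [show R.C * Q R * (Q R * R.C) = R.C * (Q R * Q R) * R.C by group, Q_sq, mul_one, C_sq]
    rcases oct_of_commute L (mul_mem (mul_mem (inv_mem (w0_mem hx)) hMW) (w0_mem hx)) (hy ▸ hyA) with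
      h' | h' | h' | h' | h' | h' | h' | h' <;> rw [← hy] at h'
    · rw [← hback, h']; group
    · exact absurd (h' ▸ hyQ) hCQ
    · exact absurd (by rwa [← hback, h', w0_A hx] at hMD) (AC_not_D (R := R))
    · refine absurd ?_ hCQ
      have := ((Q_A R).symm).mul_left (h' ▸ hyQ)
      rwa [← mul_assoc, A_sq, one_mul] at this
    · rw [← hback, h'] at hMD
      rcases hVx with e | e <;> rw [e] at hMD
      exacts [(swap_not_D hx' hMD).elim, (swap_not_D (swap_mul hx') (hv ▸ hMD)).elim]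
    · rw [← hback, h', show (w0 R x) * (R.A * Q R) * (w0 R x)⁻¹ = ((w0 R x) * R.A * (w0 R x)⁻¹) * ((w0 R x) * Q R * (w0 R x)⁻¹) by group, w0_A hx] at hMD
      rcases hVx with e | e <;> rw [e] at hMD <;> try rw [hv] at hMD
      · rw [← (x_AC hx').eq] at hMD
        exact (swap_not_D (swap_mul hx') hMD).elim
      · rw [← mul_assoc, ← (x_AC hx').eq, mul_assoc, AC_sq, mul_one] at hMD
        exact (swap_not_D hx' hMD).elim
    · refine absurd ?_ hCQ
      have := (h' ▸ hyQ : Commute (R.C * Q R) (Q R)).mul_left (Commute.refl (Q R))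
      rwa [mul_assoc, Q_sq, mul_one] at this
    · refine absurd ?_ hCQ
      have := (Commute.refl (Q R)).mul_left (h' ▸ hyQ : Commute (Q R * R.C) (Q R))
      rwa [← mul_assoc, Q_sq, one_mul] at this
  -- the element `b a`
  have hM' : (b * R.A) ^ 3 = 1 := by
    calc (b * R.A) ^ 3 = b * (R.A * b) ^ 3 * b⁻¹ := by
          simp only [pow_succ, pow_zero, one_mul, mul_assoc, mul_inv_cancel, mul_one]
      _ = 1 := by rw [← hM, hM3]; group
  have N1 : b * R.A * v = x' * (b * R.A) := by rw [mul_assoc, hvA, ← mul_assoc, bv, mul_assoc]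
  have N2 : b * R.A * x' = x' * v * (b * R.A) := by
    rw [mul_assoc, Ax, ← mul_assoc b, bx2, mul_assoc]
  have N3 : b * R.A * (x' * v) = v * (b * R.A) := by
    rw [mul_assoc, Ax2, ← mul_assoc, bx, mul_assoc]
  have hbc : (b * R.C) ^ 3 = 1 := by
    have hC : b * R.C = b * R.A * v := by rw [hv, mul_assoc b, ← mul_assoc R.A, A_sq, one_mul]
    obtain ⟨N, hN⟩ : ∃ N, N = b * R.A := ⟨_, rfl⟩
    rw [← hN] at N1 N2 N3 hM' hC
    calc (b * R.C) ^ 3 = (N * v) * (N * v) * (N * v) := by rw [hC]; simp only [pow_succ, pow_zero, one_mul, mul_assoc]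
      _ = x' * (N * x') * (N * x') * N := by rw [N1]; group
      _ = x' * (x' * v) * (N * (x' * v)) * N * N := by rw [N2]; group
      _ = x' * (x' * v) * v * N ^ 3 := by rw [N3]; simp only [pow_succ, pow_zero, one_mul, mul_assoc]
      _ = 1 := by
        rw [hM', mul_one, ← mul_assoc x' x', hx'.sq, one_mul]
        exact hv ▸ AC_sq
  have hX : R.X b = x' := by
    show b⁻¹ * (R.A * R.C) * b = x'
    rw [hbi, ← hv]; exact hbx
  exact ⟨b,
    { b_sq := hbb
      ab := hM ▸ hM3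
      bc := hbc
      bd := hbD
      be := hbE
      bs := hbS
      bt := hbT
      x_sq := hX ▸ hx'.sq
      x_a := hX ▸ hx'.x_a
      x_c := hX ▸ hx'.x_c
      x_e := hX ▸ hx'.x_e
      x_s := hX ▸ hx'.x_s
      x_t := hX ▸ hx'.x_t
      x_u := hX ▸ hx'.x_u
      x_ded := hX ▸ hx'.x_ded
      x_dud := hX ▸ hx'.x_dud }⟩

end Cfsg.Agent.ThRel
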