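import Cfsg.Agent.ThRel.Local
import Cfsg.Agent.ThWord.Sigma

/-!
# Relations between the generators of the centraliser, read in the model
-/

set_option autoImplicit false
set_option maxRecDepth 100000

namespace Cfsg.Agent.ThRel

open Cfsg.Agent.ThWord

variable {G : Type*} [Group G] (R : CData G)

/-- The value of a letter. -/
def gLet : Nat → G
  | 0 => R.A
  | 2 => R.C
  | 3 => R.D
  | 4 => R.E
  | 5 => R.S
  | 6 => R.T
  | 7 => R.U
  | 8 => R.S⁻¹
  | 9 => R.T⁻¹
  | 10 => R.U⁻¹
  | _ => 1

/-- The value of a word. -/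
def gW : List Nat → G
  | [] => 1
  | x :: l => gLet R x * gW l

theorem f_pcW : ∀ {l : List Nat}, okA l = true → R.f (pcW l) = gW R l
  | [], _ => by rw [pcW_nil, map_one]; rfl
  | x :: l, h => by
    obtain ⟨hlt, hne⟩ := okA_lt h x List.mem_cons_self
    rw [pcW_cons, map_mul, f_pcW (l := l)
      (by simp only [okA, List.all_cons, Bool.and_eq_true] at h; exact h.2), gW]
    congr 1
    interval_cases x
    case «1» => exact absurd rfl hne
    all_goals simp only [pcLet, gLet, map_inv]
    all_goals rfl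

theorem rel_eq {l m : List Nat} (h : sameA l m = true) : gW R l = gW R m := by
  have h' := eq_of_sameA R.ker.ge h
  simp only [sameA, Bool.and_eq_true] at h
  rwa [f_pcW R h.1.1, f_pcW R h.1.2] at h'

theorem rel_ne {l m : List Nat} (h : diffA l m = true) : gW R l ≠ gW R m := by
  have h' := ne_of_diffA R.ker.le h
  simp only [diffA, Bool.and_eq_true] at h
  rwa [f_pcW R h.1.1, f_pcW R h.1.2] at h'

theorem A_sq : R.A * R.A = 1 := by
  simpa [gW, gLet] using rel_eq R (l := [0, 0]) (m := []) (by decide +kernel)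

theorem C_sq : R.C * R.C = 1 := by
  simpa [gW, gLet] using rel_eq R (l := [2, 2]) (m := []) (by decide +kernel)

theorem D_sq : R.D * R.D = 1 := by
  simpa [gW, gLet] using rel_eq R (l := [3, 3]) (m := []) (by decide +kernel)

theorem E_sq : R.E * R.E = 1 := by
  simpa [gW, gLet] using rel_eq R (l := [4, 4]) (m := []) (by decide +kernel)

theorem A_ne : R.A ≠ 1 := by
  simpa [gW, gLet] using rel_ne R (l := [0]) (m := []) (by decide +kernel)

theorem C_ne : R.C ≠ 1 := by
  simpa [gW, gLet] using rel_ne R (l := [2]) (m := []) (by decide +kernel)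

theorem E_ne : R.E ≠ 1 := by
  simpa [gW, gLet] using rel_ne R (l := [4]) (m := []) (by decide +kernel)

theorem AC_ne : R.A * R.C ≠ 1 := by
  simpa [gW, gLet] using rel_ne R (l := [0, 2]) (m := []) (by decide +kernel)

theorem AC : Commute R.A R.C := by
  have h := rel_eq R (l := [0, 2]) (m := [2, 0]) (by decide +kernel)
  unfold Commute SemiconjBy; simpa [gW, gLet] using h

theorem AD : Commute R.A R.D := by
  have h := rel_eq R (l := [0, 3]) (m := [3, 0]) (by decide +kernel)
  unfold Commute SemiconjBy; simpa [gW, gLet] using h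

theorem AE : Commute R.A R.E := by
  have h := rel_eq R (l := [0, 4]) (m := [4, 0]) (by decide +kernel)
  unfold Commute SemiconjBy; simpa [gW, gLet] using h

theorem CE : Commute R.C R.E := by
  have h := rel_eq R (l := [2, 4]) (m := [4, 2]) (by decide +kernel)
  unfold Commute SemiconjBy; simpa [gW, gLet] using h

theorem AS : Commute R.A R.S := by
  have h := rel_eq R (l := [0, 5]) (m := [5, 0]) (by decide +kernel)
  unfold Commute SemiconjBy; simpa [gW, gLet] using h

theorem CS : Commute R.C R.S := by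
  have h := rel_eq R (l := [2, 5]) (m := [5, 2]) (by decide +kernel)
  unfold Commute SemiconjBy; simpa [gW, gLet] using h

theorem AT : Commute R.A R.T := by
  have h := rel_eq R (l := [0, 6]) (m := [6, 0]) (by decide +kernel)
  unfold Commute SemiconjBy; simpa [gW, gLet] using h

theorem CT' : Commute R.C R.T := by
  have h := rel_eq R (l := [2, 6]) (m := [6, 2]) (by decide +kernel)
  unfold Commute SemiconjBy; simpa [gW, gLet] using h

theorem DT : Commute R.D R.T := by
  have h := rel_eq R (l := [3, 6]) (m := [6, 3]) (by decide +kernel)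
  unfold Commute SemiconjBy; simpa [gW, gLet] using h

theorem ET : Commute R.E R.T := by
  have h := rel_eq R (l := [4, 6]) (m := [6, 4]) (by decide +kernel)
  unfold Commute SemiconjBy; simpa [gW, gLet] using h

theorem AU : Commute R.A R.U := by
  have h := rel_eq R (l := [0, 7]) (m := [7, 0]) (by decide +kernel)
  unfold Commute SemiconjBy; simpa [gW, gLet] using h

theorem CU : Commute R.C R.U := by
  have h := rel_eq R (l := [2, 7]) (m := [7, 2]) (by decide +kernel)
  unfold Commute SemiconjBy; simpa [gW, gLet] using h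

theorem DSD : R.D * R.S * R.D = R.S⁻¹ := by
  simpa [gW, gLet, mul_assoc] using rel_eq R (l := [3, 5, 3]) (m := [8]) (by decide +kernel)

theorem DED : R.D * R.E * R.D = R.E * R.D * R.E := by
  simpa [gW, gLet, mul_assoc] using rel_eq R (l := [3, 4, 3]) (m := [4, 3, 4]) (by decide +kernel)

theorem E_rel : SevenRel R R.E := by
  have h := rel_eq R (l := [4, 8, 4, 5]) (m := [8, 8, 8, 4, 5, 5, 5]) (by decide +kernel)
  unfold SevenRel
  rw [inv_eq_of_mul_eq_one_right (E_sq R)]
  simpa [gW, gLet, mul_assoc, pow_succ, mul_inv_rev] using h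

theorem CD_four : R.C * (R.D * R.C * R.D) * (R.C * (R.D * R.C * R.D)) = R.A := by
  simpa [gW, gLet, mul_assoc] using
    rel_eq R (l := [2, 3, 2, 3, 2, 3, 2, 3]) (m := [0]) (by decide +kernel)

theorem CD_E : ¬ Commute (R.D * R.C * R.D) R.E := by
  intro h
  refine rel_ne R (l := [3, 2, 3, 4]) (m := [4, 3, 2, 3]) (by decide +kernel) ?_
  simpa [gW, gLet, mul_assoc] using h.eq

theorem ACD_E : ¬ Commute (R.A * (R.D * R.C * R.D)) R.E := by
  intro h
  refine rel_ne R (l := [0, 3, 2, 3, 4]) (m := [4, 0, 3, 2, 3]) (by decide +kernel) ?_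
  simpa [gW, gLet, mul_assoc] using h.eq

theorem CCD_E : ¬ Commute (R.C * (R.D * R.C * R.D)) R.E := by
  intro h
  refine rel_ne R (l := [2, 3, 2, 3, 4]) (m := [4, 2, 3, 2, 3]) (by decide +kernel) ?_
  simpa [gW, gLet, mul_assoc] using h.eq

theorem CDC_E : ¬ Commute (R.D * R.C * R.D * R.C) R.E := by
  intro h
  refine rel_ne R (l := [3, 2, 3, 2, 4]) (m := [4, 3, 2, 3, 2]) (by decide +kernel) ?_
  simpa [gW, gLet, mul_assoc] using h.eq

theorem D_inv : R.D⁻¹ = R.D := inv_eq_of_mul_eq_one_right (D_sq R)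

/-- The `D`-conjugate of `C`, in the form of `Local`. -/
theorem cd_eq : R.D⁻¹ * R.C * R.D = R.D * R.C * R.D := by rw [D_inv]

theorem D_ded_ac : Commute (R.A * R.C) (R.D * R.C * R.D * R.E * R.D * R.C * R.D) := by
  have h := rel_eq R (l := [0, 2, 3, 2, 3, 4, 3, 2, 3]) (m := [3, 2, 3, 4, 3, 2, 3, 0, 2])
    (by decide +kernel)
  show R.A * R.C * _ = _ * (R.A * R.C)
  simpa [gW, gLet, mul_assoc] using h

theorem D_dud_ac : Commute (R.A * R.C) (R.D * R.C * R.D * R.U * R.D * R.C * R.D) := by
  have h := rel_eq R (l := [0, 2, 3, 2, 3, 7, 3, 2, 3]) (m := [3, 2, 3, 7, 3, 2, 3, 0, 2])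
    (by decide +kernel)
  show R.A * R.C * _ = _ * (R.A * R.C)
  simpa [gW, gLet, mul_assoc] using h

end Cfsg.Agent.ThRel
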