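import Mathlib

/-!
# An involutory automorphism of the alternating group of degree six fixing an element of order five
-/

set_option autoImplicit false
set_option maxRecDepth 100000

namespace Cfsg.Agent.ThRel.SixFive

/-- The alternating group on six letters. -/
abbrev A6 := alternatingGroup (Fin 6)

/-- Tuples of six letters. -/
abbrev P6 : Type := Fin 6 × Fin 6 × Fin 6 × Fin 6 × Fin 6 × Fin 6

/-- The image of a letter. -/
def ev6 : P6 → Fin 6 → Fin 6
  | (a, b, c, d, e, f), i => match i.val with
    | 0 => a
    | 1 => b
    | 2 => c
    | 3 => d
    | 4 => e
    | _ => f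

/-- Tuples of a permutation. -/
def toP6 (s : A6) : P6 :=
  ((s : Equiv.Perm (Fin 6)) 0, (s : Equiv.Perm (Fin 6)) 1, (s : Equiv.Perm (Fin 6)) 2,
    (s : Equiv.Perm (Fin 6)) 3, (s : Equiv.Perm (Fin 6)) 4, (s : Equiv.Perm (Fin 6)) 5)

theorem ev6_toP6 (s : A6) : ∀ i, ev6 (toP6 s) i = (s : Equiv.Perm (Fin 6)) i := by
  intro i
  fin_cases i <;> rfl

theorem toP6_injective : Function.Injective toP6 := fun g h e =>
  Subtype.ext (Equiv.ext fun i => by rw [← ev6_toP6, ← ev6_toP6, e])

/-- The product of tuples. -/
def pm6 : P6 → P6 → P6
  | p, (a, b, c, d, e, f) => (ev6 p a, ev6 p b, ev6 p c, ev6 p d, ev6 p e, ev6 p f)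

theorem toP6_mul (a b : A6) : toP6 (a * b) = pm6 (toP6 a) (toP6 b) := by
  show _ = (ev6 (toP6 a) _, ev6 (toP6 a) _, ev6 (toP6 a) _, ev6 (toP6 a) _, ev6 (toP6 a) _, ev6 (toP6 a) _)
  simp only [ev6_toP6]
  rfl

/-- The identity tuple. -/
def one6 : P6 := (0, 1, 2, 3, 4, 5)

/-- The standard involution. -/
def z6 : A6 := ⟨Equiv.swap 0 1 * Equiv.swap 2 3, Equiv.Perm.mem_alternatingGroup.2 (by decide +kernel)⟩

/-- The second generator. -/
def g6 : A6 :=
  ⟨Equiv.swap 1 2 * Equiv.swap 2 4 * Equiv.swap 4 3 * Equiv.swap 3 5,
    Equiv.Perm.mem_alternatingGroup.2 (by decide +kernel)⟩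

/-- The tuple of the standard involution. -/
def zT : P6 := (1, 0, 3, 2, 4, 5)

/-- The tuple of the second generator. -/
def gT : P6 := (0, 2, 4, 5, 3, 1)

theorem toP6_z6 : toP6 z6 = zT := by decide +kernel

theorem toP6_g6 : toP6 g6 = gT := by decide +kernel

/-- The value of a word in the involution and an element. -/
def word (s : A6) : List Bool → A6
  | [] => 1
  | false :: l => z6 * word s l
  | true :: l => s * word s l

/-- The value of a word on tuples. -/
def wordT (p : P6) : List Bool → P6
  | [] => one6
  | false :: l => pm6 zT (wordT p l)
  | true :: l => pm6 p (wordT p l)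

theorem toP6_word (s : A6) : ∀ l, toP6 (word s l) = wordT (toP6 s) l
  | [] => rfl
  | false :: l => by rw [word, wordT, toP6_mul, toP6_word s l, toP6_z6]
  | true :: l => by rw [word, wordT, toP6_mul, toP6_word s l]

theorem map_word (ψ : A6 ≃* A6) (hz : ψ z6 = z6) (s : A6) : ∀ l, ψ (word s l) = word (ψ s) l
  | [] => map_one ψ
  | false :: l => by rw [word, word, map_mul, hz, map_word ψ hz s l]
  | true :: l => by rw [word, word, map_mul, map_word ψ hz s l]

/-- The elements of order five, with words. -/
def fives : List (P6 × List Bool) :=
  [((0, 2, 4, 5, 3, 1), [true]),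
   ((0, 4, 3, 1, 5, 2), [true, true]),
   ((3, 1, 5, 4, 2, 0), [false, true, false]),
   ((1, 4, 2, 0, 5, 3), [false, true, true]),
   ((2, 5, 3, 1, 4, 0), [true, false, true]),
   ((4, 0, 1, 3, 5, 2), [true, true, false]),
   ((0, 3, 5, 2, 1, 4), [true, true, true]),
   ((4, 1, 0, 2, 5, 3), [false, true, true, false]),
   ((1, 2, 5, 3, 0, 4), [false, true, true, true]),
   ((2, 3, 4, 0, 1, 5), [true, false, true, true]),
   ((4, 1, 5, 2, 3, 0), [true, true, false, true]),
   ((3, 0, 2, 5, 1, 4), [true, true, true, false]),
   ((0, 5, 1, 4, 2, 3), [true, true, true, true]),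
   ((5, 3, 0, 2, 4, 1), [false, true, false, true, false]),
   ((3, 2, 4, 1, 0, 5), [false, true, false, true, true]),
   ((4, 0, 5, 3, 2, 1), [false, true, true, false, true]),
   ((2, 1, 3, 5, 0, 4), [false, true, true, true, false]),
   ((5, 1, 4, 0, 3, 2), [true, false, true, false, true]),
   ((3, 2, 0, 4, 1, 5), [true, false, true, true, false]),
   ((1, 4, 2, 5, 3, 0), [true, true, false, true, false]),
   ((2, 3, 1, 4, 0, 5), [false, true, false, true, true, false]),
   ((0, 4, 3, 5, 2, 1), [false, true, true, false, true, false]),
   ((4, 5, 2, 1, 3, 0), [false, true, true, false, true, true]),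
   ((3, 0, 1, 5, 4, 2), [true, false, true, true, false, true]),
   ((5, 4, 0, 3, 2, 1), [true, true, false, true, true, false]),
   ((4, 2, 3, 0, 1, 5), [false, true, true, false, true, true, true]),
   ((2, 0, 5, 1, 4, 3), [false, true, true, true, false, true, true]),
   ((3, 1, 4, 2, 5, 0), [true, false, true, true, false, true, true]),
   ((4, 5, 0, 3, 1, 2), [true, false, true, true, true, false, true]),
   ((5, 0, 2, 1, 3, 4), [true, true, false, true, true, false, true]),
   ((3, 4, 1, 2, 0, 5), [true, true, false, true, true, true, false]),
   ((1, 3, 0, 5, 4, 2), [true, true, true, false, true, true, false]),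
   ((1, 2, 5, 0, 4, 3), [false, true, false, true, true, false, true, false]),
   ((2, 0, 4, 3, 5, 1), [false, true, false, true, true, false, true, true]),
   ((0, 2, 5, 4, 1, 3), [false, true, true, false, true, false, true, true]),
   ((5, 1, 3, 0, 2, 4), [false, true, true, false, true, true, false, true]),
   ((2, 5, 4, 3, 1, 0), [false, true, true, true, false, true, true, true]),
   ((4, 2, 0, 1, 3, 5), [true, false, true, false, true, true, false, true]),
   ((5, 0, 2, 4, 1, 3), [true, false, true, false, true, true, true, true]),
   ((0, 5, 4, 2, 1, 3), [true, false, true, true, false, true, false, true]),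
   ((1, 3, 2, 4, 5, 0), [true, false, true, true, false, true, true, false]),
   ((4, 0, 1, 2, 3, 5), [true, false, true, true, true, false, true, true]),
   ((3, 1, 4, 5, 0, 2), [true, true, false, true, false, true, true, false]),
   ((1, 5, 0, 2, 4, 3), [true, true, false, true, false, true, true, true]),
   ((0, 5, 1, 2, 3, 4), [true, true, false, true, true, false, true, false]),
   ((3, 1, 0, 5, 2, 4), [true, true, false, true, true, true, false, true]),
   ((2, 5, 1, 3, 0, 4), [true, true, true, false, true, false, true, true]),
   ((5, 3, 2, 4, 0, 1), [true, true, true, false, true, true, true, false]),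
   ((3, 4, 0, 1, 2, 5), [true, true, true, false, true, true, true, true]),
   ((4, 3, 1, 0, 2, 5), [true, true, true, true, false, true, false, true]),
   ((5, 1, 3, 4, 0, 2), [true, true, true, true, false, true, true, true]),
   ((1, 5, 4, 3, 0, 2), [false, true, false, true, true, false, true, false, true]),
   ((0, 2, 3, 4, 5, 1), [false, true, false, true, true, false, true, true, false]),
   ((5, 4, 2, 1, 0, 3), [false, true, false, true, true, true, false, true, false]),
   ((1, 5, 0, 3, 2, 4), [false, true, true, false, true, true, false, true, false]),
   ((2, 4, 1, 0, 3, 5), [false, true, true, true, false, true, true, true, true]),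
   ((3, 5, 2, 1, 0, 4), [true, false, true, true, false, true, true, true, true]),
   ((4, 1, 3, 5, 2, 0), [true, false, true, true, true, false, true, true, true]),
   ((5, 3, 1, 0, 4, 2), [true, true, false, true, true, false, true, true, true]),
   ((3, 0, 2, 4, 5, 1), [true, true, false, true, true, true, false, true, true]),
   ((1, 4, 5, 3, 2, 0), [true, true, true, false, true, true, false, true, true]),
   ((5, 2, 0, 1, 4, 3), [true, true, true, false, true, true, true, false, true]),
   ((2, 0, 3, 4, 1, 5), [true, true, true, true, false, true, true, false, true]),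
   ((1, 4, 0, 2, 3, 5), [false, true, false, true, true, false, true, false, true, true]),
   ((5, 2, 0, 3, 1, 4), [false, true, false, true, true, true, false, true, false, true]),
   ((1, 4, 3, 0, 2, 5), [false, true, false, true, true, true, false, true, true, false]),
   ((4, 0, 2, 5, 3, 1), [false, true, false, true, true, true, false, true, true, true]),
   ((2, 4, 1, 3, 5, 0), [false, true, true, false, true, false, true, true, false, true]),
   ((5, 0, 3, 1, 4, 2), [false, true, true, false, true, false, true, true, true, false]),
   ((0, 2, 5, 1, 3, 4), [false, true, true, false, true, true, true, false, true, false]),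
   ((2, 1, 3, 4, 5, 0), [false, true, true, false, true, true, true, false, true, true]),
   ((5, 3, 2, 0, 1, 4), [false, true, true, true, false, true, false, true, true, false]),
   ((3, 0, 1, 4, 2, 5), [false, true, true, true, false, true, false, true, true, true]),
   ((0, 4, 5, 2, 3, 1), [false, true, true, true, false, true, true, false, true, true]),
   ((1, 3, 4, 2, 0, 5), [true, false, true, false, true, true, true, false, true, false]),
   ((3, 2, 0, 5, 4, 1), [true, false, true, false, true, true, true, false, true, true]),
   ((4, 0, 3, 1, 2, 5), [true, false, true, true, false, true, false, true, true, false]),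
   ((4, 0, 2, 1, 5, 3), [true, false, true, true, false, true, true, true, false, true]),
   ((5, 1, 0, 4, 2, 3), [true, false, true, true, true, false, true, false, true, true]),
   ((0, 2, 3, 5, 1, 4), [true, false, true, true, true, false, true, true, false, true]),
   ((4, 3, 2, 0, 5, 1), [true, false, true, true, true, false, true, true, true, true]),
   ((5, 2, 4, 3, 0, 1), [true, true, false, true, false, true, true, true, false, true]),
   ((3, 5, 0, 1, 4, 2), [true, true, false, true, true, false, true, true, true, false]),
   ((5, 1, 4, 2, 0, 3), [true, true, false, true, true, false, true, true, true, true]),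
   ((1, 5, 2, 4, 0, 3), [true, true, false, true, true, true, false, true, false, true]),
   ((0, 3, 4, 2, 5, 1), [true, true, false, true, true, true, false, true, true, false]),
   ((3, 2, 5, 1, 4, 0), [true, true, false, true, true, true, false, true, true, true]),
   ((1, 2, 4, 0, 3, 5), [true, true, true, false, true, false, true, true, true, false]),
   ((2, 0, 3, 5, 4, 1), [true, true, true, false, true, false, true, true, true, true]),
   ((1, 5, 2, 0, 3, 4), [true, true, true, false, true, true, false, true, true, true]),
   ((2, 5, 1, 0, 4, 3), [true, true, true, false, true, true, true, false, true, false]),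
   ((5, 0, 4, 3, 1, 2), [true, true, true, false, true, true, true, false, true, true]),
   ((4, 2, 0, 3, 5, 1), [true, true, true, true, false, true, false, true, true, true]),
   ((2, 3, 1, 5, 4, 0), [true, true, true, true, false, true, true, false, true, true]),
   ((4, 1, 3, 0, 5, 2), [false, true, false, true, true, false, true, true, true, false, true]),
   ((1, 3, 2, 5, 0, 4), [false, true, false, true, true, true, false, true, true, false, true]),
   ((2, 1, 5, 0, 3, 4), [false, true, true, false, true, false, true, true, false, true, true]),
   ((1, 2, 3, 5, 4, 0), [false, true, true, false, true, true, false, true, false, true, true]),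
   ((0, 5, 3, 4, 1, 2), [false, true, true, false, true, true, true, false, true, false, true]),
   ((1, 2, 4, 3, 5, 0), [false, true, true, false, true, true, true, false, true, true, false]),
   ((2, 3, 5, 0, 4, 1), [false, true, true, false, true, true, true, false, true, true, true]),
   ((1, 3, 5, 2, 4, 0), [false, true, true, true, false, true, true, false, true, false, true]),
   ((0, 5, 3, 1, 2, 4), [false, true, true, true, false, true, true, false, true, true, true]),
   ((3, 4, 2, 1, 5, 0), [true, false, true, false, true, true, false, true, true, true, false]),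
   ((4, 1, 5, 0, 2, 3), [true, false, true, false, true, true, false, true, true, true, true]),
   ((4, 3, 2, 5, 1, 0), [true, false, true, true, false, true, false, true, true, false, true]),
   ((0, 4, 1, 2, 5, 3), [true, false, true, true, false, true, true, true, false, true, false]),
   ((4, 2, 5, 3, 1, 0), [true, false, true, true, false, true, true, true, false, true, true]),
   ((2, 0, 5, 3, 1, 4), [true, false, true, true, true, false, true, true, false, true, false]),
   ((0, 3, 1, 4, 5, 2), [true, false, true, true, true, false, true, true, false, true, true]),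
   ((0, 3, 1, 5, 2, 4), [true, true, false, true, false, true, true, false, true, true, false]),
   ((3, 5, 2, 4, 1, 0), [true, true, false, true, false, true, true, false, true, true, true]),
   ((3, 0, 5, 2, 4, 1), [true, true, false, true, true, false, true, false, true, true, false]),
   ((0, 2, 4, 1, 5, 3), [true, true, false, true, true, false, true, false, true, true, true]),
   ((3, 0, 4, 2, 1, 5), [true, true, false, true, true, false, true, true, true, false, true]),
   ((0, 4, 5, 1, 2, 3), [true, true, false, true, true, true, false, true, true, false, true]),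
   ((5, 0, 1, 2, 4, 3), [true, true, true, false, true, false, true, true, false, true, true]),
   ((0, 5, 4, 1, 3, 2), [true, true, true, false, true, true, false, true, false, true, true]),
   ((5, 1, 0, 2, 3, 4), [true, true, true, false, true, true, false, true, true, true, false]),
   ((1, 2, 3, 4, 0, 5), [true, true, true, false, true, true, false, true, true, true, true]),
   ((0, 4, 1, 5, 3, 2), [true, true, true, true, false, true, true, false, true, false, true]),
   ((2, 1, 4, 0, 5, 3), [true, true, true, true, false, true, true, false, true, true, true]),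
   ((1, 4, 0, 3, 5, 2), [false, true, false, true, true, false, true, true, true, false, true, false]),
   ((3, 1, 5, 2, 0, 4), [false, true, false, true, true, true, false, true, true, false, true, false]),
   ((5, 0, 1, 3, 2, 4), [false, true, true, true, false, true, true, false, true, true, true, false]),
   ((2, 4, 5, 3, 0, 1), [true, true, true, true, false, true, true, false, true, true, true, true]),
   ((3, 4, 2, 5, 0, 1), [false, true, false, true, true, false, true, true, true, false, true, true, false]),
   ((3, 1, 0, 4, 5, 2), [false, true, true, false, true, true, false, true, false, true, true, true, false]),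
   ((4, 1, 0, 5, 3, 2), [false, true, true, false, true, true, true, false, true, true, false, true, false]),
   ((1, 5, 3, 0, 4, 2), [false, true, true, true, false, true, false, true, true, false, true, true, false]),
   ((5, 4, 2, 0, 3, 1), [true, true, true, false, true, false, true, true, false, true, true, true, true]),
   ((0, 3, 5, 4, 2, 1), [true, true, true, true, false, true, true, false, true, false, true, true, true]),
   ((2, 4, 3, 1, 0, 5), [false, true, true, false, true, true, false, true, false, true, true, false, true, true]),
   ((1, 3, 0, 4, 2, 5), [false, true, true, false, true, true, true, false, true, true, false, true, true, true]),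
   ((4, 5, 1, 3, 2, 0), [false, true, true, true, false, true, false, true, true, true, false, true, false, true]),
   ((5, 2, 3, 0, 4, 1), [false, true, true, true, false, true, true, false, true, true, true, false, true, true]),
   ((2, 1, 4, 5, 3, 0), [true, false, true, false, true, true, true, false, true, false, true, true, true, false]),
   ((2, 1, 5, 4, 0, 3), [true, false, true, true, false, true, true, true, false, true, true, false, true, true]),
   ((4, 3, 0, 2, 1, 5), [true, true, false, true, true, false, true, false, true, true, false, true, true, false]),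
   ((4, 5, 2, 0, 1, 3), [true, true, false, true, true, false, true, true, true, false, true, true, false, true]),
   ((2, 0, 4, 1, 3, 5), [true, true, false, true, true, true, false, true, true, false, true, true, true, false]),
   ((3, 5, 1, 2, 4, 0), [true, true, true, false, true, true, false, true, true, true, false, true, true, false]),
   ((0, 3, 4, 5, 1, 2), [false, true, false, true, true, false, true, false, true, true, true, false, true, true, true]),
   ((5, 4, 1, 3, 0, 2), [true, true, true, false, true, true, false, true, true, true, false, true, true, true, true])]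

/-- The involutions commuting with the standard one, with words. -/
def invs : List (P6 × List Bool) :=
  [((1, 0, 3, 2, 4, 5), [false]),
   ((1, 0, 2, 3, 5, 4), [true, false, true, false, true, true, true, false, true, false, true, true]),
   ((3, 2, 1, 0, 4, 5), [true, true, false, true, false, true, true, false, true, true, true, true]),
   ((2, 3, 0, 1, 4, 5), [true, true, false, true, false, true, true, true, false, true, false, true]),
   ((0, 1, 3, 2, 5, 4), [true, true, true, true, false, true, true, false, true, false, true, true])]

/-- The words of the fixed elements. -/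
def fixWords : List (List Bool) :=
  [[false, true, true, false, true, true, true],
   [false, true, true, true, false, true, false, true, true, true],
   [false, true, true, true, false, true, true],
   [true, false, true]]

/-- The condition on the image of the second generator. -/
def cand (e : P6 × List Bool) : Bool :=
  (wordT e.1 [false, true, false, true, false, true, false, true] == one6) && (wordT e.1 e.2 == gT) &&
    invs.any fun c => !(pm6 c.1 (wordT e.1 c.2) == pm6 (wordT e.1 c.2) c.1)

theorem fives_word : fives.all (fun e => wordT gT e.2 == e.1) = true := by decide +kernel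

theorem invs_word : invs.all (fun e => wordT gT e.2 == e.1) = true := by decide +kernel

theorem cand_fix : fives.all (fun e => !cand e || fixWords.any fun l => wordT e.1 l == wordT gT l) = true := by
  decide +kernel

theorem fives_complete : ∀ s : A6, s ^ 5 = 1 → s ≠ 1 → toP6 s ∈ fives.map Prod.fst := by decide +kernel

set_option synthInstance.maxSize 4000 in
set_option synthInstance.maxHeartbeats 400000 in
theorem invs_complete : ∀ s : A6, s * s = 1 → s ≠ 1 → s * z6 = z6 * s → toP6 s ∈ invs.map Prod.fst := by
  decide +kernel

theorem exists_conj : ∀ s : A6, s * s = 1 → s ≠ 1 → ∃ k : A6, k * s * k⁻¹ = z6 := by decide +kernel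

theorem g6_five : g6 ^ 5 = 1 ∧ g6 ≠ 1 := by decide +kernel

theorem g6_rel : word g6 [false, true, false, true, false, true, false, true] = 1 := by decide +kernel

theorem fix_five : ∀ l ∈ fixWords, (word g6 l) ^ 5 = 1 ∧ word g6 l ≠ 1 := by decide +kernel

theorem fixed_five (ψ : A6 ≃* A6) (hψ : ∀ s, ψ (ψ s) = s) (hz : ψ z6 = z6) {c : A6} (hc : c * c = 1)
    (hzc : Commute z6 c) (hne : ¬ Commute c (ψ c)) : ∃ f, orderOf f = 5 ∧ ψ f = f := by
  have hc1 : c ≠ 1 := fun h => hne (h ▸ Commute.one_left _)
  have h5 : (ψ g6) ^ 5 = 1 := by rw [← map_pow, g6_five.1, map_one]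
  have h1 : ψ g6 ≠ 1 := fun h => g6_five.2 (ψ.map_eq_one_iff.1 h)
  obtain ⟨e, he, hes⟩ := List.mem_map.1 (fives_complete _ h5 h1)
  obtain ⟨d, hd, hds⟩ := List.mem_map.1 (invs_complete c hc hc1 hzc.eq.symm)
  have hw : ψ g6 = word g6 e.2 :=
    toP6_injective (by rw [toP6_word, toP6_g6, ← hes, eq_of_beq (List.all_eq_true.1 fives_word e he)])
  have hcw : c = word g6 d.2 :=
    toP6_injective (by rw [toP6_word, toP6_g6, ← hds, eq_of_beq (List.all_eq_true.1 invs_word d hd)])
  have hcand : cand e = true := by
    simp only [cand, Bool.and_eq_true, beq_iff_eq, List.any_eq_true, Bool.not_eq_true', beq_eq_false_iff_ne]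
    refine ⟨⟨?_, ?_⟩, d, hd, ?_⟩
    · rw [hes, ← toP6_word, ← map_word ψ hz, g6_rel, map_one]; rfl
    · rw [hes, ← toP6_word, ← map_word ψ hz, ← hw, hψ, toP6_g6]
    · rw [hes, hds, ← toP6_word, ← map_word ψ hz, ← hcw, ← toP6_mul, ← toP6_mul]
      exact fun h => hne (toP6_injective h)
  have h := List.all_eq_true.1 cand_fix e he
  simp only [hcand, Bool.not_true, Bool.false_or, List.any_eq_true, beq_iff_eq] at h
  obtain ⟨l, hl, hlf⟩ := h
  have : Fact (Nat.Prime 5) := ⟨by norm_num⟩
  refine ⟨word g6 l, orderOf_eq_prime (fix_five l hl).1 (fix_five l hl).2, toP6_injective ?_⟩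
  rw [map_word ψ hz, toP6_word, toP6_word, ← hes, hlf, toP6_g6]

end SixFive

open SixFive in
theorem exists_fixed_five {W : Type*} [Group W] (e : W ≃* alternatingGroup (Fin 6)) (φ : W ≃* W)
    (hφ : ∀ w, φ (φ w) = w) {a c : W} (ha : orderOf a = 2) (hφa : φ a = a) (hc : c * c = 1)
    (hac : Commute a c) (hne : ¬ Commute c (φ c)) : ∃ f, orderOf f = 5 ∧ φ f = f := by
  have haa : a * a = 1 := by rw [← pow_two, ← ha, pow_orderOf_eq_one]
  have ha1 : a ≠ 1 := fun h => by rw [h, orderOf_one] at ha; exact absurd ha (by norm_num)
  obtain ⟨k, hk⟩ := exists_conj (e a) (by rw [← map_mul, haa, map_one]) (fun h => ha1 (e.map_eq_one_iff.1 h))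
  let E : W ≃* A6 := e.trans (MulAut.conj k)
  have hEa : E a = z6 := hk
  let ψ : A6 ≃* A6 := E.symm.trans (φ.trans E)
  have hψE : ∀ w, ψ (E w) = E (φ w) := fun w => by simp [ψ]
  obtain ⟨f, hf, hff⟩ := fixed_five ψ (fun s => by simp [ψ, hφ]) (by rw [← hEa, hψE, hφa]) (c := E c)
    (by rw [← map_mul, hc, map_one]) (hEa ▸ hac.map E.toMonoidHom) (fun h => hne (by
      rw [hψE] at h
      exact E.injective (by rw [map_mul, map_mul]; exact h.eq)))
  refine ⟨E.symm f, ?_, ?_⟩
  · rw [← orderOf_injective E.toMonoidHom E.injective, MulEquiv.coe_toMonoidHom, E.apply_symm_apply, hf]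
  · refine E.injective ?_
    rw [← hψE, E.apply_symm_apply, hff]

end Cfsg.Agent.ThRel
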