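import Cfsg.Agent.ThRel.BeeRels
import Cfsg.Agent.ThRel.SixFive
import Cfsg.Agent.ResidualThree.CharTwo
import Cfsg.Agent.LargeFischer.PlaneGen
import Cfsg.Agent.DGroupPSL.Basic
import Cfsg.Agent.S3035

/-!
# The centraliser of `⟨s, t⟩` is the simple group of order 168
-/

set_option autoImplicit false
set_option maxRecDepth 100000

namespace Cfsg.Agent.ThRel

variable {G : Type*} [Group G] (R : CData G)

/-- The centraliser of `s` and `t`. -/
def WW : Subgroup G := Subgroup.centralizer ({R.S, R.T} : Set G)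

/-- The conjugate `c ^ d`. -/
def Q : G := R.D * R.C * R.D

theorem mem_WW {g : G} : g ∈ WW R ↔ Commute g R.S ∧ Commute g R.T := by
  constructor
  · intro h
    exact ⟨(Subgroup.mem_centralizer_iff.1 h _ (Or.inl rfl)).symm,
      (Subgroup.mem_centralizer_iff.1 h _ (Or.inr rfl)).symm⟩
  · rintro ⟨h1, h2⟩
    refine Subgroup.mem_centralizer_iff.2 fun k hk => ?_
    rcases hk with rfl | hk
    · exact h1.eq.symm
    · rw [Set.mem_singleton_iff.1 hk]; exact h2.eq.symm

/-- Conjugation by `d` keeps commutation. -/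
theorem commute_d {g h : G} (hc : Commute g h) : Commute (R.D * g * R.D) (R.D * h * R.D) := by
  have h1 := hc.map (MulAut.conj R.D).toMonoidHom
  simpa [MulAut.conj_apply, D_inv] using h1

theorem d_d (g : G) : R.D * (R.D * g * R.D) * R.D = g := by
  rw [show R.D * (R.D * g * R.D) * R.D = (R.D * R.D) * g * (R.D * R.D) by group, D_sq, one_mul,
    mul_one]

theorem d_fix {g : G} (h : Commute g R.D) : R.D * g * R.D = g := by
  rw [mul_assoc, h.eq, ← mul_assoc, D_sq, one_mul]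

theorem d_mem {g : G} (hg : g ∈ WW R) : R.D * g * R.D ∈ WW R := by
  obtain ⟨h1, h2⟩ := (mem_WW R).1 hg
  refine (mem_WW R).2 ⟨?_, ?_⟩
  · have h3 := commute_d R h1.inv_right
    rwa [← DSD R, d_d] at h3
  · have h3 := commute_d R h2
    rwa [d_fix R (DT R).symm] at h3

theorem A_mem : R.A ∈ WW R := (mem_WW R).2 ⟨AS R, AT R⟩

theorem C_mem : R.C ∈ WW R := (mem_WW R).2 ⟨CS R, CT' R⟩

theorem E_T : Commute R.E R.T := ET R

theorem Q_mem : Q R ∈ WW R := d_mem R (C_mem R)

theorem AC_mem : R.A * R.C ∈ WW R := mul_mem (A_mem R) (C_mem R)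

theorem Q_sq : Q R * Q R = 1 := by
  rw [Q, show R.D * R.C * R.D * (R.D * R.C * R.D) = R.D * R.C * (R.D * R.D) * R.C * R.D by group,
    D_sq, mul_one, mul_assoc R.D R.C R.C, C_sq, mul_one, D_sq]

theorem Q_A : Commute (Q R) R.A := by
  have h := commute_d R (AC R)
  rw [d_fix R (AD R)] at h
  exact h.symm

theorem CQ_sq : R.C * Q R * (R.C * Q R) = R.A := CD_four R

theorem QC : Q R * R.C = R.A * R.C * Q R := by
  have h : R.C * Q R * R.C * Q R = R.A := by rw [← CQ_sq R]; group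
  have h2 : R.C * Q R * R.C = R.A * Q R := by
    rw [← h, mul_assoc (R.C * Q R * R.C), Q_sq, mul_one]
  calc Q R * R.C = R.C * (R.C * Q R * R.C) := by
        rw [show R.C * (R.C * Q R * R.C) = R.C * R.C * (Q R * R.C) by group, C_sq, one_mul]
    _ = R.A * R.C * Q R := by rw [h2, ← mul_assoc, (AC R).eq]

theorem CQC : R.C * Q R * R.C = R.A * Q R := by
  rw [mul_assoc, QC, ← mul_assoc, ← mul_assoc, ← (AC R).eq, mul_assoc R.A, C_sq, mul_one]

theorem QCQ : Q R * R.C * Q R = R.A * R.C := by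
  rw [QC, mul_assoc, Q_sq, mul_one]

/-- The elements of the dihedral group of order eight. -/
def Oct (g : G) : Prop :=
  g = 1 ∨ g = R.C ∨ g = R.A ∨ g = R.A * R.C ∨ g = Q R ∨ g = R.A * Q R ∨ g = R.C * Q R ∨ g = Q R * R.C

theorem oct_C {g : G} (h : Oct R g) : Oct R (R.C * g) := by
  unfold Oct at h ⊢
  rcases h with rfl | rfl | rfl | rfl | rfl | rfl | rfl | rfl
  · exact Or.inr <| Or.inl <| mul_one _
  · exact Or.inl <| C_sq R
  · exact Or.inr <| Or.inr <| Or.inr <| Or.inl (AC R).eq.symm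
  · exact Or.inr <| Or.inr <| Or.inl <| by rw [(AC R).eq, ← mul_assoc, C_sq, one_mul]
  · tauto
  · exact Or.inr <| Or.inr <| Or.inr <| Or.inr <| Or.inr <| Or.inr <| Or.inr <| by
      rw [QC, ← mul_assoc, (AC R).eq]
  · exact Or.inr <| Or.inr <| Or.inr <| Or.inr <| Or.inl <| by rw [← mul_assoc, C_sq, one_mul]
  · exact Or.inr <| Or.inr <| Or.inr <| Or.inr <| Or.inr <| Or.inl <| by rw [← mul_assoc, CQC]

theorem oct_Q {g : G} (h : Oct R g) : Oct R (Q R * g) := by
  unfold Oct at h ⊢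
  rcases h with rfl | rfl | rfl | rfl | rfl | rfl | rfl | rfl
  · exact Or.inr <| Or.inr <| Or.inr <| Or.inr <| Or.inl <| mul_one _
  · tauto
  · exact Or.inr <| Or.inr <| Or.inr <| Or.inr <| Or.inr <| Or.inl (Q_A R).eq
  · exact Or.inr <| Or.inr <| Or.inr <| Or.inr <| Or.inr <| Or.inr <| Or.inl <| by
      rw [← mul_assoc, (Q_A R).eq, mul_assoc, QC, ← mul_assoc, ← mul_assoc, A_sq, one_mul]
  · exact Or.inl <| Q_sq R
  · exact Or.inr <| Or.inr <| Or.inl <| by rw [← mul_assoc, (Q_A R).eq, mul_assoc, Q_sq, mul_one]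
  · exact Or.inr <| Or.inr <| Or.inr <| Or.inl <| by rw [← mul_assoc, QCQ]
  · exact Or.inr <| Or.inl <| by rw [← mul_assoc, Q_sq, one_mul]

theorem oct_of_mem {g : G}
    (h : g ∈ Subgroup.closure ({R.C, R.D⁻¹ * R.C * R.D} : Set G)) : Oct R g := by
  rw [cd_eq] at h
  induction h using Subgroup.closure_induction_left with
  | one => exact Or.inl rfl
  | mul_left x hx y _ ih =>
    rcases hx with rfl | hx
    · exact oct_C R ih
    · rw [Set.mem_singleton_iff.1 hx]; exact oct_Q R ih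
  | inv_mul_cancel x hx y _ ih =>
    rcases hx with rfl | hx
    · rw [inv_eq_of_mul_eq_one_right (C_sq R)]; exact oct_C R ih
    · rw [Set.mem_singleton_iff.1 hx, show (R.D * R.C * R.D)⁻¹ = Q R from
        inv_eq_of_mul_eq_one_right (Q_sq R)]
      exact oct_Q R ih

variable {R}

theorem oct_of_commute (L : LocalFacts R) {g : G} (hg : g ∈ WW R) (ha : Commute g R.A) : Oct R g :=
  oct_of_mem R (L.cent_st g ha ((mem_WW R).1 hg).1 ((mem_WW R).1 hg).2)

theorem x_mem {x : G} (hx : Swap R x) : x ∈ WW R := (mem_WW R).2 ⟨hx.x_s, hx.x_t⟩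

theorem x_inv {x : G} (hx : Swap R x) : x⁻¹ = x := inv_eq_of_mul_eq_one_right hx.sq

/-- The point of `⟨s, t⟩`'s centraliser standing for `a`. -/
def aW (R : CData G) : WW R := ⟨R.A, A_mem R⟩

theorem orderOf_aW : orderOf (aW R) = 2 := by
  rw [← Subgroup.orderOf_coe]
  exact orderOf_eq_prime (by rw [pow_two]; exact A_sq R) (A_ne R)

theorem cent_dihedral (L : LocalFacts R) :
    Nonempty (↥(Subgroup.centralizer ({aW R} : Set (WW R))) ≃* DihedralGroup 4) := by
  set Z := Subgroup.centralizer ({aW R} : Set (WW R)) with hZ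
  let cz : Z := ⟨⟨R.C, C_mem R⟩, Subgroup.mem_centralizer_singleton_iff.2
    (Subtype.ext (AC R).eq.symm)⟩
  let qz : Z := ⟨⟨Q R, Q_mem R⟩, Subgroup.mem_centralizer_singleton_iff.2
    (Subtype.ext (Q_A R).eq)⟩
  let az : Z := ⟨aW R, Subgroup.mem_centralizer_singleton_iff.2 rfl⟩
  have hcc : cz * cz = 1 := Subtype.ext (Subtype.ext (C_sq R))
  have hqq : qz * qz = 1 := Subtype.ext (Subtype.ext (Q_sq R))
  have hsq : cz * qz * (cz * qz) = az := Subtype.ext (Subtype.ext (CQ_sq R))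
  have haa : az * az = 1 := Subtype.ext (Subtype.ext (A_sq R))
  have ha1 : az ≠ 1 := fun h => A_ne R (congrArg (fun z : Z => ((z : WW R) : G)) h)
  have hd2 : (cz * qz) ^ 2 ≠ 1 := by rw [pow_two, hsq]; exact ha1
  refine ResidualThree.iso_dihedral_four (d := cz * qz) (s := cz) ?_ hd2 hcc ?_ ?_ ?_
  · rw [show (4 : ℕ) = 2 * 2 from rfl, pow_mul, pow_two (cz * qz), hsq, pow_two, haa]
  · rw [← mul_assoc cz cz qz, hcc, one_mul, mul_assoc, ← mul_assoc cz cz qz, hcc, one_mul, hqq]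
  · intro k hk
    refine hd2 ?_
    have hc : Commute cz (cz * qz) := by
      have hp := (Commute.refl (cz * qz)).pow_left k
      rwa [← hk] at hp
    have h2 : qz = cz * qz * cz := by
      have := hc.eq
      rwa [← mul_assoc, hcc, one_mul] at this
    rw [pow_two]
    calc cz * qz * (cz * qz) = (cz * qz * cz) * qz := by group
      _ = 1 := by rw [← h2, hqq]
  · refine eq_top_iff.2 fun z _ => ?_
    have hc : cz ∈ Subgroup.closure ({cz, cz * qz} : Set Z) := Subgroup.subset_closure (Or.inl rfl)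
    have hq : qz ∈ Subgroup.closure ({cz, cz * qz} : Set Z) := by
      have : cz * (cz * qz) ∈ Subgroup.closure ({cz, cz * qz} : Set Z) :=
        mul_mem hc (Subgroup.subset_closure (Or.inr rfl))
      rwa [← mul_assoc, hcc, one_mul] at this
    have ha : az ∈ Subgroup.closure ({cz, cz * qz} : Set Z) :=
      hsq ▸ mul_mem (mul_mem hc hq) (mul_mem hc hq)
    have hm : Commute ((z : WW R) : G) R.A :=
      congrArg Subtype.val (Subgroup.mem_centralizer_singleton_iff.1 z.2)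
    rcases oct_of_commute L (z : WW R).2 hm with h | h | h | h | h | h | h | h
    · rw [show z = 1 from Subtype.ext (Subtype.ext h)]; exact one_mem _
    · rw [show z = cz from Subtype.ext (Subtype.ext h)]; exact hc
    · rw [show z = az from Subtype.ext (Subtype.ext h)]; exact ha
    · rw [show z = az * cz from Subtype.ext (Subtype.ext h)]; exact mul_mem ha hc
    · rw [show z = qz from Subtype.ext (Subtype.ext h)]; exact hq
    · rw [show z = az * qz from Subtype.ext (Subtype.ext h)]; exact mul_mem ha hq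
    · rw [show z = cz * qz from Subtype.ext (Subtype.ext h)]; exact mul_mem hc hq
    · rw [show z = qz * cz from Subtype.ext (Subtype.ext h)]; exact mul_mem hq hc

theorem not_core [Finite G] {x : G} (hx : Swap R x) :
    Subgroup.centralizer ({aW R} : Set (WW R)) ⊔ Cfsg.oddCore (WW R) ≠ ⊤ := by
  intro h
  set O := Cfsg.oddCore (WW R)
  have hxm : (⟨x, x_mem hx⟩ : WW R) ∈ Subgroup.centralizer ({aW R} : Set (WW R)) ⊔ O := by
    rw [h]; trivial
  obtain ⟨c, hc, o, ho, hco⟩ := Subgroup.mem_sup_of_normal_right.1 hxm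
  have hca := Subgroup.mem_centralizer_singleton_iff.1 hc
  have h1 : (aW R)⁻¹ * o⁻¹ * aW R * o ∈ O :=
    mul_mem (by simpa using (inferInstance : O.Normal).conj_mem _ (inv_mem ho) (aW R)⁻¹) ho
  have h2 : o⁻¹ * aW R * o = (⟨x, x_mem hx⟩ : WW R)⁻¹ * aW R * ⟨x, x_mem hx⟩ := by
    rw [← hco, mul_inv_rev]
    calc o⁻¹ * aW R * o = o⁻¹ * (c⁻¹ * (c * aW R)) * o := by group
      _ = _ := by rw [hca]; group
  have h3 : (((aW R)⁻¹ * o⁻¹ * aW R * o : WW R) : G) = R.A * R.C := by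
    rw [show (aW R)⁻¹ * o⁻¹ * aW R * o = (aW R)⁻¹ * (o⁻¹ * aW R * o) by group, h2]
    show R.A⁻¹ * (x⁻¹ * R.A * x) = _
    rw [hx.x_a, inv_eq_of_mul_eq_one_right (A_sq R)]
  have hu : orderOf (⟨_, h1⟩ : O) = 2 := by
    rw [← Subgroup.orderOf_coe, ← Subgroup.orderOf_coe, h3]
    refine orderOf_eq_prime ?_ (AC_ne R)
    rw [pow_two]
    calc R.A * R.C * (R.A * R.C) = R.A * (R.C * R.A) * R.C := by group
      _ = 1 := by rw [← (AC R).eq, ← mul_assoc, A_sq, one_mul, C_sq]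
  exact Nat.not_even_iff_odd.2 DGroupPSL.odd_card_oddCore
    (even_iff_two_dvd.2 (hu ▸ orderOf_dvd_natCard _))

theorem perm_five_even : ∀ σ : Equiv.Perm (Fin 5), Equiv.Perm.sign σ = 1 → σ ^ 4 = 1 → σ ^ 2 = 1 := by
  decide +kernel

theorem perm_four_even : ∀ σ : Equiv.Perm (Fin 4), Equiv.Perm.sign σ = 1 → σ ^ 4 = 1 → σ ^ 2 = 1 := by
  decide +kernel

theorem not_perm {n : ℕ} (key : ∀ σ : Equiv.Perm (Fin n), Equiv.Perm.sign σ = 1 → σ ^ 4 = 1 → σ ^ 2 = 1)
    {x : G} (hx : Swap R x) (φ : WW R ≃* Equiv.Perm (Fin n)) : False := by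
  let s : WW R →* ℤˣ := Equiv.Perm.sign.comp φ.toMonoidHom
  let a : WW R := aW R
  let c : WW R := ⟨R.C, C_mem R⟩
  let q : WW R := ⟨Q R, Q_mem R⟩
  let xw : WW R := ⟨x, x_mem hx⟩
  let yw : WW R := ⟨R.D * x * R.D, d_mem R (x_mem hx)⟩
  have hconj : ∀ g h : WW R, s (g⁻¹ * h * g) = s h := fun g h => by
    rw [map_mul, map_mul, map_inv, mul_comm _ (s h), mul_assoc, inv_mul_cancel, mul_one]
  have hcq : (c * q) ^ 2 = a := Subtype.ext (by
    rw [pow_two]; exact CQ_sq R)
  have hc : s c = s a := by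
    rw [show c = xw⁻¹ * a * xw from Subtype.ext hx.x_a.symm, hconj]
  have hq : s q = s a := by
    refine (congrArg s (?_ : q = yw⁻¹ * a * yw)).trans (hconj yw a)
    refine Subtype.ext ?_
    show R.D * R.C * R.D = (R.D * x * R.D)⁻¹ * R.A * (R.D * x * R.D)
    rw [mul_inv_rev, mul_inv_rev, D_inv, x_inv hx]
    calc R.D * R.C * R.D = R.D * (x⁻¹ * R.A * x) * R.D := by rw [hx.x_a]
      _ = R.D * x * (R.D * R.A * R.D) * x * R.D := by rw [d_fix R (AD R), x_inv hx]; group
      _ = _ := by group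
  have ha : s a = 1 := by
    conv_lhs => rw [← hcq, map_pow, map_mul, hc, hq]
    rw [Int.units_mul_self, one_pow]
  have h4 : φ (c * q) ^ 4 = 1 := by
    rw [← map_pow, show (4 : ℕ) = 2 * 2 from rfl, pow_mul, hcq]
    exact φ.map_eq_one_iff.2 (Subtype.ext (by rw [pow_two]; exact A_sq R))
  have h2 := key (φ (c * q)) (show s (c * q) = 1 by rw [map_mul, hc, hq, ha, one_mul]) h4
  rw [← map_pow, hcq, φ.map_eq_one_iff] at h2
  exact A_ne R (congrArg Subtype.val h2)

set_option maxHeartbeats 4000000 in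
/-- An element taking `a` to `e` and fixing `t`. -/
theorem exists_move {x : G} (hx : Swap R x) :
    ∃ g : G, g⁻¹ * R.A * g = R.E ∧ g⁻¹ * R.T * g = R.T := by
  refine ⟨x * (R.D * R.E * R.U * R.D) * (x * (R.U * R.D * R.C * R.D)), ?_, ?_⟩
  · have hk := rel_eq R (l := [3, 10, 4, 3, 2, 3, 4, 7, 3])
      (m := [4, 8, 4, 8, 3, 2, 3, 4, 3, 2, 3, 5, 4, 5, 5, 3, 2, 3, 4, 3, 2, 3, 8]) (by decide +kernel)
    have hl := rel_eq R (l := [3, 2, 3, 10, 4, 8, 4, 8, 3, 2, 3, 10, 3, 2, 3, 7, 5, 4, 5, 5,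
      3, 2, 3, 10, 3, 2, 3, 7, 8, 7, 3, 2, 3]) (m := [4]) (by decide +kernel)
    simp only [gW, gLet, mul_one] at hk hl
    let φ := MulAut.conj x⁻¹
    have hφ : ∀ g, φ g = x⁻¹ * g * x := fun g => by simp [φ]
    have hE : φ R.E = R.E := by rw [hφ, mul_assoc, ← hx.x_e.eq, inv_mul_cancel_left]
    have hS : φ R.S = R.S := by rw [hφ, mul_assoc, ← hx.x_s.eq, inv_mul_cancel_left]
    have hX : φ (R.D * (R.C * (R.D * (R.E * (R.D * (R.C * R.D)))))) =
        R.D * R.C * R.D * R.U⁻¹ * R.D * R.C * R.D * R.U := by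
      rw [hφ, ← hx.x_ded]; group
    have hstep : (R.D * R.E * R.U * R.D)⁻¹ * (x⁻¹ * R.A * x) * (R.D * R.E * R.U * R.D) =
        R.E * R.S⁻¹ * R.E * R.S⁻¹ * (R.D * (R.C * (R.D * (R.E * (R.D * (R.C * R.D)))))) * R.S * R.E *
          R.S * R.S * (R.D * (R.C * (R.D * (R.E * (R.D * (R.C * R.D)))))) * R.S⁻¹ := by
      rw [hx.x_a, mul_inv_rev, mul_inv_rev, mul_inv_rev, D_inv, inv_eq_of_mul_eq_one_right (E_sq R)]
      simp only [mul_assoc] at hk ⊢
      exact hk
    generalize hXw : R.D * (R.C * (R.D * (R.E * (R.D * (R.C * R.D))))) = Xw at hX hstep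
    calc _ = (R.U * R.D * R.C * R.D)⁻¹ *
        φ ((R.D * R.E * R.U * R.D)⁻¹ * (x⁻¹ * R.A * x) * (R.D * R.E * R.U * R.D)) *
        (R.U * R.D * R.C * R.D) := by rw [hφ]; group
      _ = R.E := by
        rw [hstep]
        simp only [map_mul, map_inv, hE, hS, hX]
        rw [mul_inv_rev, mul_inv_rev, mul_inv_rev, D_inv, inv_eq_of_mul_eq_one_right (C_sq R)]
        simp only [mul_assoc] at hl ⊢
        exact hl
  · have hu := rel_eq R (l := [10, 6, 7]) (m := [9]) (by decide +kernel)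
    simp only [gW, gLet, mul_one] at hu
    have hu' : R.U⁻¹ * R.T * R.U = R.T⁻¹ := by rw [mul_assoc]; exact hu
    have hu'' : R.U⁻¹ * R.T⁻¹ * R.U = R.T :=
      calc R.U⁻¹ * R.T⁻¹ * R.U = (R.U⁻¹ * R.T * R.U)⁻¹ := by group
        _ = R.T := by rw [hu', inv_inv]
    have fix : ∀ {g h : G}, Commute g h → g⁻¹ * h * g = h := fun {g h} hc => by
      rw [mul_assoc, ← hc.eq, inv_mul_cancel_left]
    calc _ = (R.D * R.C * R.D)⁻¹ * (R.U⁻¹ * (x⁻¹ * (R.D⁻¹ * (R.U⁻¹ * (R.E⁻¹ * (R.D⁻¹ *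
          (x⁻¹ * R.T * x) * R.D) * R.E) * R.U) * R.D) * x) * R.U) * (R.D * R.C * R.D) := by group
      _ = R.T := by
        rw [fix hx.x_t, fix (DT R), fix (ET R), hu', fix (DT R).inv_right, fix hx.x_t.inv_right, hu'',
          fix (((DT R).mul_left (CT' R)).mul_left (DT R))]

theorem not_alt [Finite G] (L : LocalFacts R) {x : G} (hx : Swap R x)
    (e : WW R ≃* alternatingGroup (Fin 6)) : False := by
  let φ : WW R ≃* WW R :=
    { toFun := fun w => ⟨R.D * w * R.D, d_mem R w.2⟩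
      invFun := fun w => ⟨R.D * w * R.D, d_mem R w.2⟩
      left_inv := fun w => Subtype.ext (d_d R _)
      right_inv := fun w => Subtype.ext (d_d R _)
      map_mul' := fun v w => Subtype.ext (by
        show R.D * (v * w : G) * R.D = R.D * (v : G) * R.D * (R.D * (w : G) * R.D)
        rw [show R.D * (v : G) * R.D * (R.D * (w : G) * R.D) =
          R.D * (v : G) * (R.D * R.D) * (w : G) * R.D by group, D_sq, mul_one]
        group) }
  obtain ⟨f, hf5, hff⟩ := exists_fixed_five e φ (fun w => Subtype.ext (d_d R _))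
    (a := aW R) (c := ⟨R.C, C_mem R⟩) orderOf_aW (Subtype.ext (d_fix R (AD R)))
    (Subtype.ext (C_sq R)) (Subtype.ext (AC R).eq) (fun h => by
      have h' : R.C * Q R = Q R * R.C := congrArg Subtype.val h.eq
      refine A_ne R ?_
      rw [← CQ_sq R]
      nth_rw 2 [h']
      rw [show R.C * Q R * (Q R * R.C) = R.C * (Q R * Q R) * R.C by group, Q_sq, mul_one, C_sq])
  have hfd : R.D * (f : G) * R.D = f := congrArg Subtype.val hff
  have hfD : Commute (f : G) R.D := by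
    show (f : G) * R.D = R.D * f
    nth_rw 1 [← hfd]
    rw [mul_assoc, D_sq, mul_one]
  set k := R.D * R.E with hk
  have hkD : k * R.D * k⁻¹ = R.E := by
    rw [hk, mul_inv_rev, D_inv, inv_eq_of_mul_eq_one_right (E_sq R),
      show R.D * R.E * R.D * (R.E * R.D) = R.D * R.E * R.D * R.E * R.D by group, DED,
      show R.E * R.D * R.E * R.E * R.D = R.E * R.D * (R.E * R.E) * R.D by group, E_sq, mul_one,
      mul_assoc, D_sq, mul_one]
  have hkT : k * R.T * k⁻¹ = R.T := by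
    rw [((DT R).mul_left (ET R)).eq, mul_inv_cancel_right]
  have h1 := hfD.map (MulAut.conj k).toMonoidHom
  simp only [MulEquiv.coe_toMonoidHom, MulAut.conj_apply, hkD] at h1
  have h2 := ((mem_WW R).1 f.2).2.map (MulAut.conj k).toMonoidHom
  simp only [MulEquiv.coe_toMonoidHom, MulAut.conj_apply, hkT] at h2
  obtain ⟨g, hgA, hgT⟩ := exists_move hx
  have hgA' : g * R.E * g⁻¹ = R.A := by rw [← hgA]; group
  have hgT' : g * R.T * g⁻¹ = R.T := by nth_rw 1 [← hgT]; group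
  have h3 := h1.map (MulAut.conj g).toMonoidHom
  simp only [MulEquiv.coe_toMonoidHom, MulAut.conj_apply, hgA'] at h3
  have h4 := h2.map (MulAut.conj g).toMonoidHom
  simp only [MulEquiv.coe_toMonoidHom, MulAut.conj_apply, hgT'] at h4
  have hfpow : (f : G) ^ 5 = 1 := by
    rw [← Subgroup.coe_pow, ← hf5, pow_orderOf_eq_one, Subgroup.coe_one]
  have h5 := L.no_five _ h3 h4 (by rw [conj_pow, conj_pow, hfpow]; group)
  have hf1 : (f : G) = 1 := by
    have := congrArg (fun y => k⁻¹ * (g⁻¹ * y * g) * k) h5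
    simpa [mul_assoc] using this
  rw [show f = 1 from Subtype.ext hf1, orderOf_one] at hf5
  norm_num at hf5

theorem WW_facts [Finite G] (L : LocalFacts R) {x : G} (hx : Swap R x) :
    Nat.card (WW R) = 168 ∧ IsSimpleGroup (WW R) := by
  rcases S3035.result (aW R) orderOf_aW (cent_dihedral L) with h | ⟨⟨φ⟩⟩ | ⟨⟨φ⟩⟩ | ⟨⟨φ⟩⟩ | ⟨⟨φ⟩⟩
  · exact (not_core hx h).elim
  · exact (not_perm perm_four_even hx φ).elim
  · exact (not_perm perm_five_even hx φ).elim
  · exact ⟨(Nat.card_congr φ.toEquiv).trans LargeFischer.card_sl32,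
      haveI := LargeFischer.simple_sl32; φ.isSimpleGroup⟩
  · exact (not_alt L hx φ).elim

end Cfsg.Agent.ThRel
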