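import Cfsg.Agent.ThRel.R8Cert.Main

/-!
The eighth power of `b c d e` in a group satisfying the other relators of the `G₂(3):2` part of
the Thompson group: the enumeration puts it in `⟨d e⟩`, and the two non-trivial elements there
would force `a = 1`.
-/

set_option autoImplicit false
set_option maxRecDepth 100000

namespace Cfsg.Agent.ThRel

variable {G : Type*} [Group G]

/-- An element commuting with `b c` and `c` and `d` as in the proof below forces `(c d)^4 = 1`. -/
theorem cd_comm_of_de {b c d e : G} (hb : b * b = 1) (he : e * e = 1)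
    (hbd : Commute b d) (hbe : Commute b e) (hce : Commute c e)
    (h : Commute (d * e) (b * c * d * e)) : Commute c d := by
  have h1 : Commute (d * e) (b * c) := by
    have h2 : Commute (d * e) (b * c * d * e * (d * e)⁻¹) := h.mul_right (Commute.refl (d * e)).inv_right
    have e1 : b * c * d * e * (d * e)⁻¹ = b * c := by group
    rwa [e1] at h2
  have h2 : Commute (d * e) c := by
    have h3 : Commute (d * e) b := (hbd.symm).mul_left hbe.symm
    have h4 := h3.mul_right h1
    have e1 : b * (b * c) = c := by rw [← mul_assoc, hb, one_mul]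
    rwa [e1] at h4
  have h5 : Commute (d * e * e) c := h2.mul_left hce.symm
  rw [mul_assoc, he, mul_one] at h5
  exact h5.symm

/-- The hypotheses: the relators of the `G₂(3):2` part other than the eighth power. -/
structure G23Rel (a b c d e u : G) : Prop where
  aa : a * a = 1
  bb : b * b = 1
  cc : c * c = 1
  dd : d * d = 1
  ee : e * e = 1
  ab : (a * b) ^ 3 = 1
  bc : (b * c) ^ 3 = 1
  de : (d * e) ^ 3 = 1
  ae : Commute a e
  bd : Commute b d
  be : Commute b e
  ce : Commute c e
  acd : a = (c * d) ^ 4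
  uu : u * u = a * c
  ua : Commute u a
  uc : Commute u c
  ue : Commute u e
  dedu : (d * e * (u⁻¹ * d * u)) ^ 2 = 1
  ux : u⁻¹ * (b⁻¹ * (a * c) * b)⁻¹ * u * (b⁻¹ * (a * c) * b) = e
  r10 : (d⁻¹ * u * d)⁻¹ * (b⁻¹ * (a * c) * b)⁻¹ * (d⁻¹ * u * d) * (b⁻¹ * (a * c) * b) =
    u * e * (b⁻¹ * (a * c) * b) * (d⁻¹ * u * d) * e * c

namespace G23Rel

variable {a b c d e u : G} (R : G23Rel a b c d e u)
include R

omit R in
theorem sq_of_comm {p q : G} (hp : p * p = 1) (hq : q * q = 1) (h : Commute p q) :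
    (p * q) ^ 2 = 1 := by
  rw [h.mul_pow, pow_two, pow_two, hp, hq, one_mul]

theorem inv_cd : (c * d)⁻¹ = d * c := by
  rw [mul_inv_rev, inv_eq_of_mul_eq_one_right R.dd, inv_eq_of_mul_eq_one_right R.cc]

theorem ac_comm : Commute a c := by
  have e1 : c * (c * d) * c = (c * d)⁻¹ := by
    rw [R.inv_cd, ← mul_assoc, R.cc, one_mul]
  have ci : c⁻¹ = c := inv_eq_of_mul_eq_one_right R.cc
  have e2 : c * (c * d) ^ 4 * c = a⁻¹ := by
    have h := conj_pow (i := 4) (a := c) (b := c * d)
    rw [ci, e1, inv_pow, ← R.acd] at h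
    rw [← R.acd]
    exact h.symm
  rw [← R.acd, inv_eq_of_mul_eq_one_right R.aa] at e2
  have e3 : c * (c * a * c) = c * a := by rw [e2]
  rw [← mul_assoc, ← mul_assoc, R.cc, one_mul] at e3
  exact e3

theorem ad_comm : Commute a d := by
  have h1 : Commute a (c * d) := by rw [R.acd]; exact (Commute.refl (c * d)).pow_left 4
  have h2 := R.ac_comm.mul_right h1
  rwa [← mul_assoc, R.cc, one_mul] at h2

theorem cd_eight : (c * d) ^ 8 = 1 := by
  rw [show 8 = 4 * 2 from rfl, pow_mul, ← R.acd, pow_two, R.aa]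

theorem bcde_pow_eight (ha : a ≠ 1) : (b * c * d * e) ^ 8 = 1 := by
  let f : Fin 6 → G := ![a, b, c, d, e, u]
  have sq : ∀ {p q : G}, p * p = 1 → q * q = 1 → Commute p q → p * q * p * q = 1 := by
    intro p q hp hq h
    have := sq_of_comm hp hq h
    rwa [pow_two, ← mul_assoc] at this
  have hud : Commute a (d⁻¹ * u * d) := (R.ad_comm.inv_right.mul_right R.ua.symm).mul_right R.ad_comm
  have hf : ∀ r ∈ R8Cert.relWords, FreeGroup.lift f (FreeGroup.mk r) = 1 := by
    intro r hr
    simp only [R8Cert.relWords, List.mem_cons, List.not_mem_nil, or_false] at hr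
    rcases hr with rfl | rfl | rfl | rfl | rfl | rfl | rfl | rfl | rfl | rfl | rfl | rfl | rfl |
      rfl | rfl | rfl | rfl | rfl | rfl | rfl | rfl | rfl | rfl | rfl <;>
    simp only [FreeGroup.lift_mk, List.map_cons, List.map_nil, List.prod_cons, List.prod_nil,
      cond_true, cond_false, mul_one, f, Fin.isValue, Matrix.cons_val, Matrix.cons_val_zero,
      Matrix.cons_val_one]
    · exact R.aa
    · exact R.bb
    · exact R.cc
    · exact R.dd
    · exact R.ee
    · have := sq R.aa R.ee R.ae; simpa only [mul_assoc] using this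
    · have := sq R.bb R.dd R.bd; simpa only [mul_assoc] using this
    · have := sq R.bb R.ee R.be; simpa only [mul_assoc] using this
    · have := sq R.cc R.ee R.ce; simpa only [mul_assoc] using this
    · have := sq R.aa R.cc R.ac_comm; simpa only [mul_assoc] using this
    · have := sq R.aa R.dd R.ad_comm; simpa only [mul_assoc] using this
    · rw [← mul_assoc, R.uu]; group
    · rw [← mul_assoc (u⁻¹), ← mul_assoc, mul_assoc (u⁻¹ * a⁻¹), R.ua.eq]; group
    · rw [← mul_assoc (u⁻¹), ← mul_assoc, mul_assoc (u⁻¹ * c⁻¹), R.uc.eq]; group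
    · rw [← mul_assoc (u⁻¹), ← mul_assoc, mul_assoc (u⁻¹ * e⁻¹), R.ue.eq]; group
    · have hh := R.ab; simp only [pow_succ, pow_zero, one_mul, mul_assoc] at hh ⊢; exact hh
    · have hh := R.bc; simp only [pow_succ, pow_zero, one_mul, mul_assoc] at hh ⊢; exact hh
    · have hh := R.de; simp only [pow_succ, pow_zero, one_mul, mul_assoc] at hh ⊢; exact hh
    · have h : a * (d⁻¹ * u * d) = d⁻¹ * u * d * a := hud
      calc a⁻¹ * (d⁻¹ * (u⁻¹ * (d * (a * (d⁻¹ * (u * d))))))
          = a⁻¹ * (d⁻¹ * u⁻¹ * d) * (a * (d⁻¹ * u * d)) := by group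
        _ = 1 := by rw [h]; group
    · have h : a * ((c * d) ^ 4)⁻¹ = 1 := by rw [← R.acd, mul_inv_cancel]
      simp only [pow_succ, pow_zero, one_mul, mul_assoc, mul_inv_rev] at h ⊢; exact h
    · have hh := R.dedu; simp only [pow_succ, pow_zero, one_mul, mul_assoc] at hh ⊢; exact hh
    · calc _ = u⁻¹ * (b⁻¹ * (a * c) * b)⁻¹ * u * (b⁻¹ * (a * c) * b) * e := by group
        _ = 1 := by rw [R.ux, R.ee]
    · have hh := R.cd_eight; simp only [pow_succ, pow_zero, one_mul, mul_assoc] at hh ⊢; exact hh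
    · calc _ = (d⁻¹ * u * d)⁻¹ * (b⁻¹ * (a * c) * b)⁻¹ * (d⁻¹ * u * d) * (b⁻¹ * (a * c) * b) *
            (u * e * (b⁻¹ * (a * c) * b) * (d⁻¹ * u * d) * e * c)⁻¹ := by group
        _ = 1 := by rw [R.r10, mul_inv_cancel]
  have hk := R8Cert.holds f hf _ (List.mem_cons_self)
  have hmem : (b * c * d * e) ^ 8 ∈ Subgroup.zpowers (d * e) := by
    have hS : {s | ∃ w ∈ R8Cert.subWords, FreeGroup.lift f (FreeGroup.mk w) = s} ⊆
        (Subgroup.zpowers (d * e) : Set G) := by
      rintro _ ⟨w, hw, rfl⟩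
      simp only [R8Cert.subWords, List.mem_cons, List.not_mem_nil, or_false] at hw
      subst hw
      simp only [FreeGroup.lift_mk, List.map_cons, List.map_nil, List.prod_cons, List.prod_nil,
        cond_true, mul_one, f, Fin.isValue, Matrix.cons_val]
      exact Subgroup.mem_zpowers _
    have := (Subgroup.closure_le _).2 hS hk
    simp only [FreeGroup.lift_mk, List.map_cons, List.map_nil, List.prod_cons, List.prod_nil,
      cond_true, mul_one, f, Fin.isValue, Matrix.cons_val] at this
    simpa only [pow_succ, pow_zero, one_mul, mul_assoc] using this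
  obtain ⟨n, hn⟩ := Subgroup.mem_zpowers_iff.1 hmem
  by_contra hk1
  have hcomm : Commute (d * e) (b * c * d * e) := by
    have h0 : Commute ((d * e) ^ n) (b * c * d * e) := by
      rw [hn]; exact (Commute.refl (b * c * d * e)).pow_left 8
    have h3 : orderOf (d * e) ∣ 3 := orderOf_dvd_of_pow_eq_one R.de
    have hn3 : ¬(3 : ℤ) ∣ n := by
      intro hd3
      apply hk1
      rw [← hn]
      obtain ⟨m, rfl⟩ := hd3
      rw [zpow_mul, zpow_ofNat, R.de, one_zpow]
    have hcases : n % 3 = 1 ∨ n % 3 = 2 := by omega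
    have hred : (d * e) ^ n = (d * e) ^ (n % 3) := by
      conv_lhs => rw [← Int.mul_ediv_add_emod n 3, zpow_add, zpow_mul, zpow_ofNat, R.de, one_zpow, one_mul]
    rw [hred] at h0
    rcases hcases with h | h <;> rw [h] at h0
    · simpa using h0
    · have h1 := h0.pow_left 2
      have e1 : ((d * e) ^ (2 : ℤ)) ^ 2 = d * e := by
        rw [zpow_ofNat, ← pow_mul, show 2 * 2 = 3 + 1 from rfl, pow_add, R.de, one_mul, pow_one]
      rwa [e1] at h1
  have hcd : Commute c d := cd_comm_of_de R.bb R.ee R.bd R.be R.ce hcomm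
  apply ha
  rw [R.acd, hcd.mul_pow, show 4 = 2 * 2 from rfl, pow_mul, pow_mul, pow_two c, pow_two d, R.cc, R.dd,
    one_pow, one_mul]

end G23Rel

end Cfsg.Agent.ThRel
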