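import Cfsg.Agent.ThRel.Bee
import Cfsg.Agent.ThRel.R8
import Cfsg.Agent.ThEnd.Theta

/-!
# From `b` and the last relator to the isomorphism with the presented Thompson group
-/

set_option autoImplicit false
set_option maxRecDepth 100000
set_option maxHeartbeats 2000000

namespace Cfsg.Agent.ThRel

open Cfsg.Agent.ThEnd (genVal noB)

variable {G : Type*} [Group G] (R : CData G)

/-- The relator `[u ^ d, x] = u e x u ^ d e c`. -/
def LastRel (b : G) : Prop :=
  (R.D⁻¹ * R.U * R.D)⁻¹ * (R.X b)⁻¹ * (R.D⁻¹ * R.U * R.D) * R.X b =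
    R.U * R.E * R.X b * (R.D⁻¹ * R.U * R.D) * R.E * R.C

theorem eight {b : G} (B : BData R b) (h10 : LastRel R b) : (b * R.C * R.D * R.E) ^ 8 = 1 := by
  have hde := rel_eq R (l := [3, 4, 3, 4, 3, 4]) (m := []) (by decide +kernel)
  have hacd := rel_eq R (l := [0]) (m := [2, 3, 2, 3, 2, 3, 2, 3]) (by decide +kernel)
  have huu := rel_eq R (l := [7, 7]) (m := [0, 2]) (by decide +kernel)
  have hue := rel_eq R (l := [7, 4]) (m := [4, 7]) (by decide +kernel)
  have hdedu := rel_eq R (l := [3, 4, 10, 3, 7, 3, 4, 10, 3, 7]) (m := []) (by decide +kernel)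
  simp only [gW, gLet, mul_one] at hde hacd huu hue hdedu
  refine G23Rel.bcde_pow_eight (a := R.A) (u := R.U)
    { aa := A_sq R, bb := B.b_sq, cc := C_sq R, dd := D_sq R, ee := E_sq R, ab := B.ab, bc := B.bc
      de := ?_, ae := AE R, bd := B.bd, be := B.be, ce := CE R, acd := ?_, uu := huu
      ua := (AU R).symm, uc := (CU R).symm, ue := hue, dedu := ?_, ux := ?_, r10 := h10 } (A_ne R)
  · simpa only [pow_succ, pow_zero, one_mul, mul_assoc] using hde
  · simpa only [pow_succ, pow_zero, one_mul, mul_assoc] using hacd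
  · simpa only [pow_succ, pow_zero, one_mul, mul_assoc] using hdedu
  · show R.U⁻¹ * (R.X b)⁻¹ * R.U * R.X b = R.E
    rw [show R.U⁻¹ * (R.X b)⁻¹ * R.U * R.X b = R.U⁻¹ * ((R.X b)⁻¹ * R.U * R.X b) by group, B.x_u,
      inv_mul_cancel_left]

theorem inv_comm {g h : G} (hc : Commute g h) : g⁻¹ * h⁻¹ * g * h = 1 := by
  rw [mul_assoc _ g h, hc.eq]; group

theorem sq_of_invol {g h : G} (hg : g * g = 1) (hh : h * h = 1) (hc : Commute g h) :
    (g * h) ^ 2 = 1 := by
  rw [pow_two]
  calc g * h * (g * h) = g * (h * g) * h := by group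
    _ = 1 := by rw [← hc.eq, ← mul_assoc, hg, one_mul, hh]

/-- The relators in which `b` occurs. -/
theorem rels_of_bdata {b : G} (B : BData R b) (h10 : LastRel R b) :
    ∀ r ∈ Spor.Th.extra, noB r = false → FreeGroup.lift (genVal R.f b) r = 1 := by
  intro r hr hn
  have h8 := eight R B h10
  simp only [Spor.Th.extra, List.mem_cons, List.not_mem_nil, or_false] at hr
  rcases hr with rfl | rfl | rfl | rfl | rfl | rfl | rfl | rfl | rfl | rfl | rfl | rfl | rfl | rfl |
    rfl | rfl | rfl | rfl | rfl | rfl | rfl | rfl | rfl | rfl | rfl | rfl | rfl | rfl | rfl | rfl |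
    rfl | rfl | rfl | rfl | rfl | rfl | rfl | rfl | rfl
  all_goals first | exact absurd hn (by decide +kernel) | skip
  all_goals simp only [map_mul, map_pow, map_inv, FreeGroup.lift_apply_of, genVal, ThEnd.back]
  · rw [pow_two]; exact B.b_sq
  · exact B.ab
  · exact B.bc
  · exact sq_of_invol B.b_sq (D_sq R) B.bd
  · exact sq_of_invol B.b_sq (E_sq R) B.be
  · exact h8
  · exact inv_comm B.bs.symm
  · exact inv_comm B.bt.symm
  · show R.U⁻¹ * (R.X b)⁻¹ * R.U * R.X b * R.E⁻¹ = 1
    rw [show R.U⁻¹ * (R.X b)⁻¹ * R.U * R.X b = R.U⁻¹ * ((R.X b)⁻¹ * R.U * R.X b) by group, B.x_u,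
      inv_mul_cancel_left, mul_inv_cancel]
  · exact mul_inv_eq_one.2 h10

/-- The isomorphism, given the last relator for every candidate `b`. -/
theorem iso_of_last [Finite G] {z : G} (h : ThLocal.Hyp z)
    (hR : ∀ R : CData G, ∃ b, BData R b ∧ LastRel R b) : Spor.IsoTh G := by
  obtain ⟨f, hf, hrange, hker, -⟩ := ThLocal.exists_centraliser_map h
  let R : CData G :=
    { f := f
      range := by rw [hf]; exact hrange
      ker := hker
      one_class := fun x hx => hf.symm ▸ ThLocal.conj_of_involution h x hx }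
  obtain ⟨b, B, h10⟩ := hR R
  exact ThEnd.iso_of_rels h f hf hrange hker.ge b (rels_of_bdata R B h10)

end Cfsg.Agent.ThRel
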