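import Cfsg.Agent.ThRel.R10.Main

/-!
# From the local facts and an involution exchanging `a` and `c` to the Thompson group
-/

set_option autoImplicit false

namespace Cfsg.Agent.ThRel

variable {G : Type*} [Group G]

/-- Everything said about the group, from the facts about `C(a)` and `x`. -/
theorem iso_of_local [Finite G] {z : G} (h : ThLocal.Hyp z) (hL : ∀ R : CData G, LocalFacts R)
    (hS : ∀ R : CData G, ∃ x, Swap R x) : Spor.IsoTh G :=
  iso_of_last h fun R => by
    obtain ⟨x, hx⟩ := hS R
    obtain ⟨b, B⟩ := exists_bdata_of_swap R (hL R) hx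
    exact ⟨b, B, lastRel_of_bdata B⟩

end Cfsg.Agent.ThRel
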