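import Cfsg.Agent.ThCent.ToTh

/-!
# Interface of the relator part of the Thompson cluster

`CData G` is a map of the presented centraliser onto the centraliser of an involution of `G` with the
kernel of the map to Th, all involutions of `G` being conjugate to the image of `a`.
`BData R b` says that `b` satisfies the relators with `b` other than the eighth power of `b c d e` and
`[u ^ d, (a c) ^ b]`, together with the action of `x = (a c) ^ b` on `C(a, c)`.
-/

set_option autoImplicit false

namespace Cfsg.Agent.ThRel

open Cfsg.Agent.ThCent (PC)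

/-- The centraliser of the involution `f a`, coordinatised by the presented centraliser. -/
structure CData (G : Type*) [Group G] where
  /-- the map of the presented centraliser -/
  f : PC →* G
  range : f.range = Subgroup.centralizer ({f (PresentedGroup.of 0)} : Set G)
  ker : f.ker = ThCent.toTh.ker
  one_class : ∀ x : G, orderOf x = 2 → IsConj x (f (PresentedGroup.of 0))

namespace CData

variable {G : Type*} [Group G] (R : CData G)

/-- The image of `a`. -/
def A : G := R.f (PresentedGroup.of 0)
/-- The image of `c`. -/
def C : G := R.f (PresentedGroup.of 1)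
/-- The image of `d`. -/
def D : G := R.f (PresentedGroup.of 2)
/-- The image of `e`. -/
def E : G := R.f (PresentedGroup.of 3)
/-- The image of `s`. -/
def S : G := R.f (PresentedGroup.of 4)
/-- The image of `t`. -/
def T : G := R.f (PresentedGroup.of 5)
/-- The image of `u`. -/
def U : G := R.f (PresentedGroup.of 6)

/-- `(a c) ^ b`. -/
def X (b : G) : G := b⁻¹ * (R.A * R.C) * b

end CData

/-- What is proved about `b` before the two long relators. -/
structure BData {G : Type*} [Group G] (R : CData G) (b : G) : Prop where
  b_sq : b * b = 1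
  ab : (R.A * b) ^ 3 = 1
  bc : (b * R.C) ^ 3 = 1
  bd : Commute b R.D
  be : Commute b R.E
  bs : Commute b R.S
  bt : Commute b R.T
  x_sq : R.X b * R.X b = 1
  x_a : (R.X b)⁻¹ * R.A * R.X b = R.C
  x_c : (R.X b)⁻¹ * R.C * R.X b = R.A
  x_e : Commute (R.X b) R.E
  x_s : Commute (R.X b) R.S
  x_t : Commute (R.X b) R.T
  x_u : (R.X b)⁻¹ * R.U * R.X b = R.U * R.E
  x_ded : (R.X b)⁻¹ * (R.D * R.C * R.D * R.E * R.D * R.C * R.D) * R.X b =
    R.D * R.C * R.D * R.U⁻¹ * R.D * R.C * R.D * R.U
  x_dud : (R.X b)⁻¹ * (R.D * R.C * R.D * R.U * R.D * R.C * R.D) * R.X b =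
    R.D * R.E * R.D * R.C * R.D * R.C * R.E * R.D * R.U⁻¹

end Cfsg.Agent.ThRel
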