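import Cfsg.Agent.ThRel.Interface

/-!
# The facts about the centraliser of the involution used in finding `b`
-/

set_option autoImplicit false

namespace Cfsg.Agent.ThRel

variable {G : Type*} [Group G]

/-- An involution exchanging `a` and `c` with the action used by the two long relators. -/
structure Swap (R : CData G) (x : G) : Prop where
  sq : x * x = 1
  x_a : x⁻¹ * R.A * x = R.C
  x_c : x⁻¹ * R.C * x = R.A
  x_e : Commute x R.E
  x_s : Commute x R.S
  x_t : Commute x R.T
  x_u : x⁻¹ * R.U * x = R.U * R.E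
  x_ded : x⁻¹ * (R.D * R.C * R.D * R.E * R.D * R.C * R.D) * x =
    R.D * R.C * R.D * R.U⁻¹ * R.D * R.C * R.D * R.U
  x_dud : x⁻¹ * (R.D * R.C * R.D * R.U * R.D * R.C * R.D) * x =
    R.D * R.E * R.D * R.C * R.D * R.C * R.E * R.D * R.U⁻¹

/-- The relation `[y, s] = y ^ (s ^ 3)`. -/
def SevenRel (R : CData G) (y : G) : Prop := y⁻¹ * R.S⁻¹ * y * R.S = (R.S ^ 3)⁻¹ * y * R.S ^ 3

/-- An involution of the kind of `e` for the four-group `⟨a, c ^ d⟩`. -/
structure TwinElt (R : CData G) (y : G) : Prop where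
  sq : y * y = 1
  ne : y ≠ 1
  y_a : Commute y R.A
  y_cd : Commute y (R.D⁻¹ * R.C * R.D)
  y_t : Commute y R.T
  rel : SevenRel R y

/-- The three facts about `C(a)` needed for `b`. -/
structure LocalFacts (R : CData G) : Prop where
  cent_st : ∀ g : G, Commute g R.A → Commute g R.S → Commute g R.T →
    g ∈ Subgroup.closure ({R.C, R.D⁻¹ * R.C * R.D} : Set G)
  twin_unique : ∀ y y' : G, TwinElt R y → TwinElt R y' → y = y'
  no_five : ∀ g : G, Commute g R.A → Commute g R.T → g ^ 5 = 1 → g = 1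

end Cfsg.Agent.ThRel
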