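import Cfsg.Agent.ThRel.Interface

/-!
# An involution exchanging `a` and `c` and commuting with `s` and `t`
-/

set_option autoImplicit false

namespace Cfsg.Agent.ThRel

/-- A swapper before its action on `C(a, c)` is known. -/
structure RawSwap {G : Type*} [Group G] (R : CData G) (x : G) : Prop where
  sq : x * x = 1
  x_a : x⁻¹ * R.A * x = R.C
  x_c : x⁻¹ * R.C * x = R.A
  x_s : Commute x R.S
  x_t : Commute x R.T

end Cfsg.Agent.ThRel
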