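import Cfsg.Agent.ThRel.Model.Facts
import Cfsg.Agent.ThRel.SwapRaw

/-!
# An involution exchanging `a` and `c`

Conjugate the group `Q` of `a` to that of `a c` by an element carrying `a` to `a c` and `c` to `a`; its
elements not commuting with `a` are permuted by `s`, and a fixed one gives the involution.
-/

set_option autoImplicit false
set_option maxRecDepth 100000

namespace Cfsg.Agent.ThRel

open Cfsg.Agent.CosetCert Model

variable {G : Type*} [Group G]

namespace Invol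

/-- The code does not commute with the code of `c`. -/
noncomputable def odd1 (r : Nat) : Bool := !(Nat.beq (mulQ r 1) (mulQ 1 r))

theorem odd1_card : (Finset.univ.filter fun r : Fin 512 => odd1 r.val = true).card = 256 := by
  decide +kernel

theorem odd1_facts : allFrom (fun r => !(odd1 r) || (Nat.beq (mulQ r 1) (mulQ 257 r) &&
    (Nat.beq (mulQ r r) 0 || (Nat.beq (mulQ (mulQ r 1) (mulQ r 1)) 0 && odd1 (mulQ r 1))) &&
    (!(Nat.beq (mulQ (mulQ r 1) (mulQ r 1)) 0) || !(Nat.beq (mulQ r r) 0)) &&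
    (!(Nat.beq (mulQ (mulQ r 257) (mulQ r 257)) 0) || !(Nat.beq (mulQ r r) 0)))) 0 512 = true := by
  decide +kernel

theorem exp_four : allFrom (fun q => Nat.beq (mulQ (mulQ q q) (mulQ q q)) 0) 0 512 = true := by
  decide +kernel

theorem cent_s : allFrom (fun q => !(eqB [14 + q, 4] [4, 14 + q] && Nat.beq (mulQ q 1) (mulQ 1 q)) ||
    (Nat.beq q 0 || (Nat.beq q 256 || (Nat.beq q 1 || Nat.beq q 257)))) 0 512 = true := by
  decide +kernel

theorem codes_facts : orbitCodes.any (Nat.beq 257) = true ∧ mulQ 256 257 = 1 ∧ mulQ 256 1 = 257 ∧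
    mulQ 257 256 = 1 ∧ mulQ 256 256 = 0 ∧ mulQ 1 1 = 0 := by
  decide +kernel

theorem rels_S (R : CData G) : R.S ^ 7 = 1 ∧ R.S * R.T = R.T * R.S ^ 2 := by
  constructor
  · rw [gS, show gv R [4] ^ 7 = gv R [4, 4, 4, 4, 4, 4, 4] by
      rw [gv_cons R 4 [4, 4, 4, 4, 4, 4], gv_cons R 4 [4, 4, 4, 4, 4], gv_cons R 4 [4, 4, 4, 4],
        gv_cons R 4 [4, 4, 4], gv_cons R 4 [4, 4], gv_cons R 4 [4]]
      simp only [pow_succ, pow_zero, one_mul, mul_assoc], ← gv_nil R]
    exact gv_eq R (by decide) rfl (by decide +kernel)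
  · rw [gS, gT, pow_two, ← gv_append, ← gv_append, ← gv_append]
    exact gv_eq R (by decide) (by decide) (by decide +kernel)

theorem comm_gens (R : CData G) : Commute R.A R.C ∧ Commute R.S R.C ∧ Commute R.T R.C := by
  refine ⟨?_, ?_, ?_⟩ <;>
  · show _ * _ = _ * _
    simp only [gA, gC, gS, gT, ← gv_append]
    exact gv_eq R (by decide) (by decide) (by decide +kernel)

/-- An element carrying `a` to `a c` and `c` to `a`. -/
theorem exists_frame [Finite G] (R : CData G) :
    ∃ g : G, g * R.A * g⁻¹ = R.A * R.C ∧ g * R.C * g⁻¹ = R.A := by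
  obtain ⟨hAC, -, -⟩ := comm_gens R
  obtain ⟨r, hr, he⟩ := List.any_eq_true.1 codes_facts.1
  obtain ⟨k, hk, hk2⟩ := orbit_conj R r hr
  rw [← Nat.eq_of_beq_eq_true he, ← gAC_code] at hk2
  have hC2 : R.C * R.C = 1 := by rw [gC_code, gQv_mul R (by norm_num) (by norm_num),
    codes_facts.2.2.2.2.2, gQv_zero]
  have hC1 : R.C ≠ 1 := fun h => absurd (gQv_inj R (by norm_num) (by norm_num)
    ((gC_code R).symm.trans (h.trans (gQv_zero R).symm))) (by norm_num)
  obtain ⟨g₀, hg₀⟩ := isConj_iff.1 (R.one_class R.C (orderOf_eq_prime (by rw [pow_two, hC2]) hC1)).symm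
  change g₀ * R.A * g₀⁻¹ = R.C at hg₀
  set g₁ := k⁻¹ * g₀ with hg₁
  have h1 : g₁ * R.A * g₁⁻¹ = R.A * R.C := by
    rw [← hk2, ← hg₀, hg₁]; group
  set y := g₁⁻¹ * R.A * g₁ with hy
  have hyA : Commute y R.A := by
    have h : Commute R.A (g₁ * R.A * g₁⁻¹) := by rw [h1]; exact (Commute.refl R.A).mul_right hAC
    show y * R.A = R.A * y
    calc y * R.A = g₁⁻¹ * (R.A * (g₁ * R.A * g₁⁻¹)) * g₁ := by rw [hy]; group
      _ = g₁⁻¹ * ((g₁ * R.A * g₁⁻¹) * R.A) * g₁ := by rw [h.eq]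
      _ = R.A * y := by rw [hy]; group
  have hA2 : R.A * R.A = 1 := by
    rw [gA_code, gQv_mul R (by norm_num) (by norm_num), codes_facts.2.2.2.2.1, gQv_zero]
  have hy2 : y * y = 1 := by
    rw [hy, show g₁⁻¹ * R.A * g₁ * (g₁⁻¹ * R.A * g₁) = g₁⁻¹ * (R.A * R.A) * g₁ by group, hA2]
    group
  have hA1 : R.A ≠ 1 := fun h => absurd (gQv_inj R (by norm_num) (by norm_num)
    ((gA_code R).symm.trans (h.trans (gQv_zero R).symm))) (by norm_num)
  have hy1 : y ≠ 1 := fun h => hA1 (by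
    rw [show R.A = g₁ * y * g₁⁻¹ by rw [hy]; group, h]; group)
  have hyA' : y ≠ R.A := fun h => hC1 (by
    have e : R.A = R.A * R.C := by
      conv_lhs => rw [show R.A = g₁ * y * g₁⁻¹ by rw [hy]; group, h, h1]
    exact mul_eq_left.1 e.symm)
  have hbig : Nat.card (cen2 R.A R.C) ≤ Nat.card (cen2 R.A y) := by
    refine Nat.card_le_card_of_injective (fun m : cen2 R.A R.C => (⟨g₁⁻¹ * m.1 * g₁, ?_⟩ : cen2 R.A y))
      fun a b e => Subtype.ext (mul_left_cancel (mul_right_cancel (congrArg Subtype.val e)))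
    obtain ⟨ha, hc⟩ := mem_cen2.1 m.2
    have hm : m.1 * (R.A * R.C) = R.A * R.C * m.1 := (ha.mul_right hc).eq
    refine mem_cen2.2 ⟨?_, ?_⟩
    · show g₁⁻¹ * m.1 * g₁ * R.A = R.A * (g₁⁻¹ * m.1 * g₁)
      calc g₁⁻¹ * m.1 * g₁ * R.A = g₁⁻¹ * (m.1 * (g₁ * R.A * g₁⁻¹)) * g₁ := by group
        _ = g₁⁻¹ * ((g₁ * R.A * g₁⁻¹) * m.1) * g₁ := by rw [h1, hm]
        _ = R.A * (g₁⁻¹ * m.1 * g₁) := by group
    · show g₁⁻¹ * m.1 * g₁ * y = y * (g₁⁻¹ * m.1 * g₁)
      calc g₁⁻¹ * m.1 * g₁ * y = g₁⁻¹ * (m.1 * R.A) * g₁ := by rw [hy]; group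
        _ = g₁⁻¹ * (R.A * m.1) * g₁ := by rw [ha.eq]
        _ = y * (g₁⁻¹ * m.1 * g₁) := by rw [hy]; group
  obtain ⟨q, hq, hyq⟩ := exists_orbit_code R hy2 hy1 hyA' hyA hbig
  obtain ⟨h, hh, hh2⟩ := orbit_conj R q hq
  rw [← hyq] at hh2
  refine ⟨g₁ * h⁻¹, ?_, ?_⟩
  · calc g₁ * h⁻¹ * R.A * (g₁ * h⁻¹)⁻¹ = g₁ * (h⁻¹ * (R.A * h)) * g₁⁻¹ := by group
      _ = g₁ * R.A * g₁⁻¹ := by rw [← hh.eq]; group
      _ = R.A * R.C := h1
  · calc g₁ * h⁻¹ * R.C * (g₁ * h⁻¹)⁻¹ = g₁ * (h⁻¹ * R.C * h) * g₁⁻¹ := by group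
      _ = R.A := by rw [hh2, hy]; group

/-- Conjugation by an element of the centraliser on codes. -/
theorem gQv_conj_unique (R : CData G) {g : G} (hg : Commute g R.A) :
    ∃ f : Fin 512 → Fin 512, Function.Bijective f ∧ ∀ r, g⁻¹ * gQv R r.val * g = gQv R (f r).val := by
  choose f hf hf2 using fun r : Fin 512 => gQv_conj R hg r.2
  refine ⟨fun r => ⟨f r, hf r⟩, ?_, hf2⟩
  refine Finite.injective_iff_bijective.1 fun a b e => Fin.ext (gQv_inj R a.2 b.2 ?_)
  have e' := congrArg Fin.val e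
  simp only at e'
  have := (hf2 a).trans ((congrArg (gQv R) e').trans (hf2 b).symm)
  exact mul_left_cancel (mul_right_cancel this)

end Invol

open Invol in
/-- An involution exchanging `a` and `c` and commuting with `s` and `t`. -/
theorem exists_rawSwap [Finite G] (R : CData G) : ∃ x, RawSwap R x := by
  classical
  obtain ⟨hAC, hSC, hTC⟩ := comm_gens R
  obtain ⟨hS7, hST⟩ := rels_S R
  obtain ⟨g, gA', gC'⟩ := exists_frame R
  have hSA : Commute R.S R.A := gS R ▸ gv_mem R _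
  have hTA : Commute R.T R.A := gT R ▸ gv_mem R _
  have pullA : ∀ {m : G}, Commute m R.A → Commute m R.C →
      Commute (g⁻¹ * m * g) R.A ∧ Commute (g⁻¹ * m * g) R.C := by
    intro m ha hc
    have hm : m * (R.A * R.C) = R.A * R.C * m := (ha.mul_right hc).eq
    constructor
    · show g⁻¹ * m * g * R.A = R.A * (g⁻¹ * m * g)
      calc g⁻¹ * m * g * R.A = g⁻¹ * (m * (g * R.A * g⁻¹)) * g := by group
        _ = g⁻¹ * ((g * R.A * g⁻¹) * m) * g := by rw [gA', hm]
        _ = R.A * (g⁻¹ * m * g) := by group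
    · show g⁻¹ * m * g * R.C = R.C * (g⁻¹ * m * g)
      calc g⁻¹ * m * g * R.C = g⁻¹ * (m * (g * R.C * g⁻¹)) * g := by group
        _ = g⁻¹ * ((g * R.C * g⁻¹) * m) * g := by rw [gC', ha.eq]
        _ = R.C * (g⁻¹ * m * g) := by group
  obtain ⟨sA, sC⟩ := pullA hSA hSC
  obtain ⟨tA, tC⟩ := pullA hTA hTC
  set s' := g⁻¹ * R.S * g with hs'
  set t' := g⁻¹ * R.T * g with ht'
  have C1 : R.C = gQv R 1 := gC_code R
  have odd_conj : ∀ {h : G}, Commute h R.C → ∀ {r r' : Fin 512},
      h⁻¹ * gQv R r.val * h = gQv R r'.val → odd1 r.val = true → odd1 r'.val = true := by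
    intro h hh r r' he ho
    simp only [odd1, Bool.not_eq_true'] at ho ⊢
    rw [Bool.eq_false_iff] at ho ⊢
    intro hb
    apply ho
    have e : gQv R r'.val * R.C = R.C * gQv R r'.val := by
      rw [C1, gQv_mul R r'.2 (by norm_num), gQv_mul R (by norm_num) r'.2, Nat.eq_of_beq_eq_true hb]
    rw [← he] at e
    have e2 : gQv R r.val * R.C = R.C * gQv R r.val := by
      calc gQv R r.val * R.C = h * (h⁻¹ * gQv R r.val * h * R.C) * h⁻¹ := by
            rw [show h⁻¹ * gQv R r.val * h * R.C = h⁻¹ * gQv R r.val * (h * R.C) by group, hh.eq]; group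
        _ = h * (R.C * (h⁻¹ * gQv R r.val * h)) * h⁻¹ := by rw [e]
        _ = R.C * gQv R r.val := by
            rw [← mul_assoc, hh.eq]; group
    rw [C1, gQv_mul R r.2 (by norm_num), gQv_mul R (by norm_num) r.2] at e2
    rw [gQv_inj R (mulQ_lt r.2 (by norm_num)) (mulQ_lt (by norm_num) r.2) e2, Nat.beq_refl]
  obtain ⟨f, hf, hfs⟩ := gQv_conj_unique R sA
  let σ : Equiv.Perm {r : Fin 512 // odd1 r.val = true} :=
    Equiv.ofBijective (fun r => ⟨f r.1, odd_conj sC (hfs r.1) r.2⟩)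
      (Finite.injective_iff_bijective.1 fun a b e => Subtype.ext (hf.1 (congrArg Subtype.val e)))
  have hpow : ∀ (n : ℕ) (r : {r : Fin 512 // odd1 r.val = true}),
      (s' ^ n)⁻¹ * gQv R r.1.val * s' ^ n = gQv R ((σ ^ n) r).1.val := by
    intro n
    induction n with
    | zero => intro r; simp
    | succ n ih =>
      intro r
      rw [pow_succ' σ, Equiv.Perm.mul_apply]
      show _ = gQv R (f ((σ ^ n) r).1).val
      rw [← hfs, ← ih, pow_succ]
      group
  have hs7 : s' ^ 7 = 1 := by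
    rw [hs', show g⁻¹ * R.S * g = MulAut.conj g⁻¹ R.S by simp [MulAut.conj_apply], ← map_pow, hS7, map_one]
  have hσ : σ ^ 7 ^ 1 = 1 := Equiv.ext fun r => Subtype.ext (Fin.ext (gQv_inj R (Fin.is_lt _) (Fin.is_lt _) (by
    rw [pow_one, ← hpow 7 r, hs7]; simp)))
  haveI : Fact (Nat.Prime 7) := ⟨by norm_num⟩
  obtain ⟨⟨r₀, hr₀⟩, hfix⟩ := Equiv.Perm.exists_fixed_point_of_prime
    (show ¬ 7 ∣ Fintype.card {r : Fin 512 // odd1 r.val = true} by
      rw [Fintype.card_subtype, odd1_card]; norm_num) hσ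
  have hfix' : Commute s' (gQv R r₀.val) := by
    have h := hpow 1 ⟨r₀, hr₀⟩
    rw [pow_one, pow_one, hfix] at h
    show s' * gQv R r₀.val = gQv R r₀.val * s'
    conv_lhs => rw [← h]
    group
  have facts : ∀ r, r < 512 → odd1 r = true → mulQ r 1 = mulQ 257 r ∧
      (mulQ r r = 0 ∨ (mulQ (mulQ r 1) (mulQ r 1) = 0 ∧ odd1 (mulQ r 1) = true)) ∧
      (mulQ r r = 0 → mulQ (mulQ r 1) (mulQ r 1) ≠ 0 ∧ mulQ (mulQ r 257) (mulQ r 257) ≠ 0) := by
    intro r hr ho
    have h := (allFrom_iff _ _ _).1 odd1_facts r (Nat.zero_le _) (by omega)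
    simp only [ho, Bool.not_true, Bool.false_or, Bool.and_eq_true, Bool.or_eq_true, Bool.not_eq_true'] at h
    obtain ⟨⟨⟨h1, h2⟩, h3⟩, h4⟩ := h
    refine ⟨Nat.eq_of_beq_eq_true h1, h2.imp Nat.eq_of_beq_eq_true (fun h => ⟨Nat.eq_of_beq_eq_true h.1, h.2⟩),
      fun h0 => ⟨fun e => ?_, fun e => ?_⟩⟩
    · rw [h0, e] at h3; simp at h3
    · rw [h0, e] at h4; simp at h4
  obtain ⟨r, hr, ho, hsq, hsr⟩ : ∃ r, r < 512 ∧ odd1 r = true ∧ mulQ r r = 0 ∧ Commute s' (gQv R r) := by
    rcases (facts _ r₀.2 hr₀).2.1 with h | ⟨h, h'⟩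
    · exact ⟨r₀, r₀.2, hr₀, h, hfix'⟩
    · refine ⟨_, mulQ_lt r₀.2 (by norm_num), h', h, ?_⟩
      rw [← gQv_mul R r₀.2 (by norm_num), ← C1]
      exact hfix'.mul_right sC
  set v := gQv R r with hv
  have hv2 : v * v = 1 := by rw [hv, gQv_mul R hr hr, hsq, gQv_zero]
  have hvC : v * R.C = R.A * R.C * v := by
    rw [hv, gAC_code, C1, gQv_mul R hr (by norm_num), gQv_mul R (by norm_num) hr, (facts r hr ho).1]
  have hvA : Commute v R.A := gQv_comm_A R r
  set x := g * v * g⁻¹ with hx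
  have hx2 : x * x = 1 := by
    rw [hx, show g * v * g⁻¹ * (g * v * g⁻¹) = g * (v * v) * g⁻¹ by group, hv2]; group
  have hxi : x⁻¹ = x := inv_eq_of_mul_eq_one_right hx2
  have hxA : x * R.A * x = R.C := by
    calc x * R.A * x = x * (g * R.C * g⁻¹) * x := by rw [gC']
      _ = g * (v * R.C * v) * g⁻¹ := by rw [hx]; group
      _ = g * (R.A * R.C * (v * v)) * g⁻¹ := by rw [hvC]; group
      _ = (g * R.A * g⁻¹) * (g * R.C * g⁻¹) := by rw [hv2]; group
      _ = R.C := by
          rw [gA', gC', hAC.eq, mul_assoc, gA_code, gQv_mul R (by norm_num) (by norm_num),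
            codes_facts.2.2.2.2.1, gQv_zero, mul_one]
  have hxS : Commute x R.S := by
    show x * R.S = R.S * x
    calc x * R.S = g * (v * s') * g⁻¹ := by rw [hx, hs']; group
      _ = g * (s' * v) * g⁻¹ := by rw [hsr.eq]
      _ = R.S * x := by rw [hx, hs']; group
  refine ⟨x, hx2, by rw [hxi, hxA], ?_, hxS, ?_⟩
  · rw [hxi, ← hxA, show x * (x * R.A * x) * x = (x * x) * R.A * (x * x) by group, hx2]
    simp
  · obtain ⟨rt, hrt, hrt2⟩ := gQv_conj R tA hr
    have hot : odd1 rt = true := odd_conj tC (r := ⟨r, hr⟩) (r' := ⟨rt, hrt⟩) hrt2 ho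
    have hcomm : Commute s' (gQv R rt) := by
      have e2 : t'⁻¹ * s' * t' = s' ^ 2 := by
        rw [hs', ht', show (g⁻¹ * R.T * g)⁻¹ * (g⁻¹ * R.S * g) * (g⁻¹ * R.T * g) =
          g⁻¹ * (R.T⁻¹ * (R.S * R.T)) * g by group, hST]
        simp only [pow_two]
        group
      have h2 : Commute (s' ^ 2) (gQv R rt) := by
        rw [← e2, ← hrt2]
        show _ * _ = _ * _
        calc t'⁻¹ * s' * t' * (t'⁻¹ * v * t') = t'⁻¹ * (s' * v) * t' := by group
          _ = t'⁻¹ * (v * s') * t' := by rw [hsr.eq]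
          _ = t'⁻¹ * v * t' * (t'⁻¹ * s' * t') := by group
      have := h2.pow_left 4
      rwa [← pow_mul, pow_succ, hs7, one_mul] at this
    set m := mulQ r rt with hm
    have hm' : m < 512 := mulQ_lt hr hrt
    have hvm : gQv R rt = v * gQv R m := by
      rw [hm, ← gQv_mul R hr hrt, ← mul_assoc, hv2, one_mul]
    have hrtC : gQv R rt * R.C = R.A * R.C * gQv R rt := by
      rw [gAC_code, C1, gQv_mul R hrt (by norm_num), gQv_mul R (by norm_num) hrt, (facts rt hrt hot).1]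
    have hmC : Commute (gQv R m) R.C := by
      have e : gQv R m = v * gQv R rt := by rw [hm, gQv_mul R hr hrt]
      show gQv R m * R.C = R.C * gQv R m
      calc gQv R m * R.C = v * (gQv R rt * R.C) := by rw [e, mul_assoc]
        _ = (v * R.A) * R.C * gQv R rt := by rw [hrtC]; group
        _ = R.A * (v * R.C) * gQv R rt := by rw [hvA.eq]; group
        _ = R.A * (R.A * R.C * v) * gQv R rt := by rw [hvC]
        _ = (R.A * R.A) * R.C * (v * gQv R rt) := by group
        _ = R.C * gQv R m := by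
            rw [← e, gA_code, gQv_mul R (by norm_num) (by norm_num), codes_facts.2.2.2.2.1, gQv_zero, one_mul]
    have hms : Commute s' (gQv R m) := by
      rw [hm, ← gQv_mul R hr hrt]; exact hsr.mul_right hcomm
    set M := g * gQv R m * g⁻¹ with hM
    have hMA : Commute M R.A := by
      show M * R.A = R.A * M
      calc M * R.A = M * (g * R.C * g⁻¹) := by rw [gC']
        _ = g * (gQv R m * R.C) * g⁻¹ := by rw [hM]; group
        _ = g * (R.C * gQv R m) * g⁻¹ := by rw [hmC.eq]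
        _ = g * R.C * g⁻¹ * M := by rw [hM]; group
        _ = R.A * M := by rw [gC']
    have hMAC : Commute M (R.A * R.C) := by
      show M * (R.A * R.C) = R.A * R.C * M
      calc M * (R.A * R.C) = M * (g * R.A * g⁻¹) := by rw [gA']
        _ = g * (gQv R m * R.A) * g⁻¹ := by rw [hM]; group
        _ = g * (R.A * gQv R m) * g⁻¹ := by rw [(gQv_comm_A R m).eq]
        _ = g * R.A * g⁻¹ * M := by rw [hM]; group
        _ = R.A * R.C * M := by rw [gA']
    have hMS : Commute M R.S := by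
      show M * R.S = R.S * M
      calc M * R.S = g * (gQv R m * s') * g⁻¹ := by rw [hM, hs']; group
        _ = g * (s' * gQv R m) * g⁻¹ := by rw [hms.eq]
        _ = R.S * M := by rw [hM, hs']; group
    have hMC : Commute M R.C := by
      have := hMA.inv_right.mul_right hMAC
      rwa [inv_mul_cancel_left] at this
    have hM4 : M ^ 4 = 1 := by
      have h4 : gQv R m ^ 4 = 1 := by
        rw [show (4 : ℕ) = 2 + 2 from rfl, pow_add, pow_two, gQv_mul R hm' hm',
          gQv_mul R (mulQ_lt hm' hm') (mulQ_lt hm' hm'),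
          Nat.eq_of_beq_eq_true ((allFrom_iff _ _ _).1 exp_four m (Nat.zero_le _) (by omega)), gQv_zero]
      rw [hM, show g * gQv R m * g⁻¹ = MulAut.conj g (gQv R m) by simp [MulAut.conj_apply], ← map_pow, h4,
        map_one]
    set M' : cA R := ⟨M, mem_cA R hMA⟩
    have e4 : sigG R M' ^ 4 = 1 := by rw [← map_pow, show M' ^ 4 = 1 from Subtype.ext hM4, map_one]
    have eS := sigG_comm R (g := M') (h := ⟨R.S, mem_cA R hSA⟩) hMS
    rw [sigG_gv R (g := ⟨R.S, _⟩) (gS R).symm, sigW_pS] at eS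
    obtain ⟨q, hq, hMq⟩ := sigG_code R M' (eq_one_of_four (sigG_even R M') e4 eS)
    change M = gQv R q at hMq
    have hqc := (allFrom_iff _ _ _).1 cent_s q (Nat.zero_le _) (by omega)
    have c1 : eqB [14 + q, 4] [4, 14 + q] = true :=
      (eqB_iff R (okW_iff.2 (by simp; omega)) (okW_iff.2 (by simp; omega))).2
        (show gv R ([14 + q] ++ [4]) = gv R ([4] ++ [14 + q]) by
          rw [gv_append, gv_append, ← gS]; exact (hMq ▸ hMS).eq)
    have c2 : Nat.beq (mulQ q 1) (mulQ 1 q) = true := by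
      have e := hMC.eq
      rw [hMq, C1, gQv_mul R hq (by norm_num), gQv_mul R (by norm_num) hq] at e
      rw [gQv_inj R (mulQ_lt hq (by norm_num)) (mulQ_lt (by norm_num) hq) e, Nat.beq_refl]
    rw [c1, c2, Bool.and_self, Bool.not_true, Bool.false_or] at hqc
    have hmval : gQv R m = g⁻¹ * gQv R q * g := by rw [← hMq, hM]; group
    have hbad : ∀ k, k < 512 → gQv R m = gQv R k → mulQ (mulQ r k) (mulQ r k) = 0 := by
      intro k hk he
      have e : gQv R rt = gQv R (mulQ r k) := by rw [hvm, he, hv, gQv_mul R hr hk]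
      have h2 : gQv R rt * gQv R rt = 1 := by
        rw [← hrt2, show t'⁻¹ * v * t' * (t'⁻¹ * v * t') = t'⁻¹ * (v * v) * t' by group, hv2]; group
      rw [e, gQv_mul R (mulQ_lt hr hk) (mulQ_lt hr hk), ← gQv_zero R] at h2
      exact gQv_inj R (mulQ_lt (mulQ_lt hr hk) (mulQ_lt hr hk)) (by norm_num) h2
    have hTV : t'⁻¹ * v * t' = v ∨ t'⁻¹ * v * t' = v * R.A := by
      rw [hrt2, hvm]
      simp only [Bool.or_eq_true] at hqc
      rcases hqc with h | h | h | h <;> rw [Nat.eq_of_beq_eq_true h] at hmval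
      · left; rw [hmval, gQv_zero]; group
      · exfalso
        have : gQv R m = gQv R 1 := by
          rw [hmval, ← gA_code, ← gC', ← C1]; group
        exact ((facts r hr ho).2.2 hsq).1 (hbad 1 (by norm_num) this)
      · exfalso
        have : gQv R m = gQv R 257 := by
          rw [hmval, ← C1, ← gAC_code]
          calc g⁻¹ * R.C * g = g⁻¹ * (R.A * (R.A * R.C)) * g := by
                rw [← mul_assoc R.A, gA_code, gQv_mul R (by norm_num) (by norm_num),
                  codes_facts.2.2.2.2.1, gQv_zero, one_mul]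
            _ = g⁻¹ * ((g * R.C * g⁻¹) * (g * R.A * g⁻¹)) * g := by rw [gA', gC']
            _ = R.C * R.A := by group
            _ = R.A * R.C := hAC.eq.symm
        exact ((facts r hr ho).2.2 hsq).2 (hbad 257 (by norm_num) this)
      · right
        rw [hmval, ← gAC_code, ← gA']; group
    rcases hTV with h | h
    · show x * R.T = R.T * x
      calc x * R.T = g * (v * t') * g⁻¹ := by rw [hx, ht']; group
        _ = g * (t' * (t'⁻¹ * v * t')) * g⁻¹ := by group
        _ = R.T * x := by rw [h, hx, ht']; group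
    · exfalso
      have ht3 : t' ^ 3 = 1 := by
        have hT3 : R.T ^ 3 = 1 := by
          rw [gT, show gv R [5] ^ 3 = gv R [5, 5, 5] by
            rw [gv_cons R 5 [5, 5], gv_cons R 5 [5]]; simp only [pow_succ, pow_zero, one_mul, mul_assoc],
            ← gv_nil R]
          exact gv_eq R (by decide) rfl (by decide +kernel)
        rw [ht', show g⁻¹ * R.T * g = MulAut.conj g⁻¹ R.T by simp [MulAut.conj_apply], ← map_pow, hT3, map_one]
      have hA' : t'⁻¹ * R.A * t' = R.A := by rw [mul_assoc, ← tA.eq]; group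
      have hAA : R.A * R.A = 1 := by
        rw [gA_code, gQv_mul R (by norm_num) (by norm_num), codes_facts.2.2.2.2.1, gQv_zero]
      have h2 : (t' ^ 2)⁻¹ * v * t' ^ 2 = v := by
        calc (t' ^ 2)⁻¹ * v * t' ^ 2 = t'⁻¹ * (t'⁻¹ * v * t') * t' := by simp only [pow_two]; group
          _ = (t'⁻¹ * v * t') * (t'⁻¹ * R.A * t') := by conv_lhs => rw [h]
                                                        group
          _ = v := by rw [h, hA', mul_assoc, hAA, mul_one]
      have h3 : (t' ^ 3)⁻¹ * v * t' ^ 3 = v * R.A := by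
        calc (t' ^ 3)⁻¹ * v * t' ^ 3 = t'⁻¹ * ((t' ^ 2)⁻¹ * v * t' ^ 2) * t' := by group
          _ = v * R.A := by rw [h2, h]
      rw [ht3] at h3
      simp only [inv_one, one_mul, mul_one] at h3
      exact absurd (gQv_inj R (by norm_num) (by norm_num)
        ((gA_code R).symm.trans ((mul_eq_left.1 h3.symm).trans (gQv_zero R).symm))) (by norm_num)

end Cfsg.Agent.ThRel
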